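/-
A maximal 2-local subgroup isomorphic to `S₄` makes the Sylow 2-subgroups dihedral or quasi-dihedral.
-/
import Mathlib
import Cfsg.Agent.PGroups.CyclicMaximal
import Cfsg.Agent.PGroups.MaxClass

set_option autoImplicit false
set_option linter.unusedSectionVars false
set_option linter.style.haveILetI false

namespace Cfsg.Lib.SolvCentType

open Subgroup Equiv

universe u

set_option synthInstance.maxSize 2000

theorem v4_mul : ∀ a b : Perm (Fin 4), a * a = 1 → Perm.sign a = 1 → b * b = 1 → Perm.sign b = 1 →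
    a * b * (a * b) = 1 ∧ Perm.sign (a * b) = 1 ∧ a * b = b * a := by decide +kernel

theorem v4_conj : ∀ g a : Perm (Fin 4), a * a = 1 → Perm.sign a = 1 →
    g * a * g⁻¹ * (g * a * g⁻¹) = 1 ∧ Perm.sign (g * a * g⁻¹) = 1 := by decide +kernel

theorem v4_cent : ∀ x : Perm (Fin 4), (∀ a : Perm (Fin 4), a * a = 1 → Perm.sign a = 1 → a * x = x * a) →
    x * x = 1 ∧ Perm.sign x = 1 := by decide +kernel

theorem v4_count : Fintype.card {a : Perm (Fin 4) // a * a = 1 ∧ Perm.sign a = 1} = 4 := by decide +kernel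

/-- the normal four group of `S₄` -/
def vFour : Subgroup (Perm (Fin 4)) where
  carrier := {a | a * a = 1 ∧ Perm.sign a = 1}
  one_mem' := ⟨one_mul 1, map_one _⟩
  mul_mem' := fun {a b} ha hb => ⟨(v4_mul a b ha.1 ha.2 hb.1 hb.2).1, (v4_mul a b ha.1 ha.2 hb.1 hb.2).2.1⟩
  inv_mem' := fun {a} ha => by rw [inv_eq_of_mul_eq_one_right ha.1]; exact ha

theorem card_vFour : Nat.card vFour = 4 := by
  show Nat.card {a : Perm (Fin 4) // a * a = 1 ∧ Perm.sign a = 1} = 4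
  rw [Nat.card_eq_fintype_card, v4_count]

variable {X : Type u} [Group X] [Finite X]

/-- Sylow 2-subgroups around a maximal 2-local subgroup `S₄` -/
theorem dihedral_or_quasi {M : Subgroup X} (hM : Cfsg.IsMaximalTwoLocal M) (e : M ≃* Perm (Fin 4))
    (P : Sylow 2 X) : (∃ n : ℕ, 2 ≤ n ∧ Nonempty ((P : Subgroup X) ≃* DihedralGroup n)) ∨
      Cfsg.IsQuasiDihedral (P : Subgroup X) := by
  haveI : Fact (Nat.Prime 2) := ⟨Nat.prime_two⟩
  set W := (vFour.map e.symm.toMonoidHom).map M.subtype with hW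
  have hW4 : Nat.card W = 2 ^ 2 := by
    rw [hW, card_map_of_injective M.subtype_injective,
      card_map_of_injective (f := e.symm.toMonoidHom) e.symm.injective, card_vFour]
    norm_num
  have hWM : W ≤ M := map_subtype_le _
  have hWp : IsPGroup 2 W := IsPGroup.of_card hW4
  have hWne : W ≠ ⊥ := fun h => by rw [h, card_bot] at hW4; norm_num at hW4
  have hMN : M ≤ normalizer (W : Set X) := by
    intro g hg
    refine mem_normalizer_iff.2 fun y => ⟨?_, fun hy => ?_⟩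
    · rintro ⟨_, ⟨a, ha, rfl⟩, rfl⟩
      refine ⟨_, ⟨_, v4_conj (e ⟨g, hg⟩) a ha.1 ha.2, rfl⟩, ?_⟩
      simp
    · obtain ⟨_, ⟨a, ha, rfl⟩, hae⟩ := hy
      refine ⟨_, ⟨_, v4_conj (e ⟨g, hg⟩)⁻¹ a ha.1 ha.2, rfl⟩, ?_⟩
      simp only [MulEquiv.coe_toMonoidHom, map_mul, map_inv, e.symm_apply_apply, inv_inv, Subgroup.coe_subtype] at hae ⊢
      rw [hae]; group
  have hN : normalizer (W : Set X) = M := hM.2 _ ⟨W, hWp, hWne, rfl⟩ hMN
  have hC : ∀ x : X, (∀ w ∈ W, w * x = x * w) → x ∈ W := by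
    intro x hx
    have hxM : x ∈ M := hN ▸ centralizer_le_normalizer _ (mem_centralizer_iff.2 fun w hw => hx w hw)
    refine ⟨⟨x, hxM⟩, ⟨e ⟨x, hxM⟩, v4_cent _ fun a ha1 ha2 => ?_, e.symm_apply_apply _⟩, rfl⟩
    have h1 : e.symm a * ⟨x, hxM⟩ = ⟨x, hxM⟩ * e.symm a :=
      Subtype.ext (hx _ ⟨e.symm a, ⟨a, ⟨ha1, ha2⟩, rfl⟩, rfl⟩)
    simpa using congrArg e h1
  have hWc : ∀ a ∈ W, ∀ b ∈ W, a * b = b * a := by
    rintro _ ⟨_, ⟨a, ha, rfl⟩, rfl⟩ _ ⟨_, ⟨b, hb, rfl⟩, rfl⟩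
    rw [← map_mul, ← map_mul, ← map_mul, ← map_mul, (v4_mul a b ha.1 ha.2 hb.1 hb.2).2.2]
  obtain ⟨Q, hQ⟩ := hWp.exists_le_sylow
  suffices hs : (∃ n : ℕ, 2 ≤ n ∧ Nonempty ((Q : Subgroup X) ≃* DihedralGroup n)) ∨
      Cfsg.IsQuasiDihedral (Q : Subgroup X) by
    rcases hs with ⟨n, hn, ⟨f⟩⟩ | ⟨n, hn, hcard, x, y, hx, hy, hxy⟩
    · exact Or.inl ⟨n, hn, ⟨(P.equiv Q).trans f⟩⟩
    · refine Or.inr ⟨n, hn, by rw [Nat.card_congr (P.equiv Q).toEquiv, hcard], Q.equiv P x, Q.equiv P y,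
        by rw [MulEquiv.orderOf_eq, hx], by rw [MulEquiv.orderOf_eq, hy], ?_⟩
      rw [← map_inv, ← map_mul, ← map_mul, hxy, map_pow]
  haveI : Group.IsNilpotent ↥(Q : Subgroup X) := Q.2.isNilpotent
  obtain ⟨n, hn⟩ := IsPGroup.iff_card.1 Q.2
  have hn3 : 3 ≤ n := by
    have h1 : 2 ^ 3 ∣ Nat.card (Q : Subgroup X) := Q.pow_dvd_card_of_pow_dvd_card (by
      refine dvd_trans ?_ (Subgroup.card_subgroup_dvd_card M)
      rw [Nat.card_congr e.toEquiv, Nat.card_perm, Nat.card_fin]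
      decide)
    rw [hn] at h1
    exact (Nat.pow_dvd_pow_iff_le_right one_lt_two).1 h1
  set W' := W.subgroupOf (Q : Subgroup X) with hW'
  have hcent : centralizer (W' : Set (Q : Subgroup X)) = W' := by
    refine le_antisymm ?_ ?_
    swap
    · intro x hx
      exact mem_centralizer_iff.2 fun y hy => Subtype.ext (hWc y (mem_subgroupOf.1 hy) x (mem_subgroupOf.1 hx))
    intro x hx
    exact mem_subgroupOf.2 (hC x fun w hw =>
      congrArg Subtype.val (mem_centralizer_iff.1 hx ⟨w, hQ hw⟩ (mem_subgroupOf.2 hw)))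
  have hW'4 : Nat.card W' = 2 ^ 2 := by rw [hW', Nat.card_congr (subgroupOfEquivOfLe hQ).toEquiv, hW4]
  have hc := Cfsg.Lib.MaxClass.of_self_centralizing (p := 2) n _ hn W' hW'4 hcent
  obtain ⟨C, hCc, hCi⟩ := Cfsg.Lib.MaxClass.exists_cyclic_index_two n _ hn hn3 hc
  have hna : ∃ x y : (Q : Subgroup X), x * y ≠ y * x := by
    by_contra hno
    push Not at hno
    exact Cfsg.Lib.MaxClass.not_comm hn3 hc hno
  obtain ⟨a, b, hab, h1 | h2 | ⟨hn4, h3⟩ | ⟨hn4, h4⟩⟩ := Cfsg.Lib.CyclicMax.classify n hn3 hn C hCc hCi hna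
  · obtain ⟨f⟩ := Cfsg.Lib.CyclicMax.toDihedral h1 (by omega)
    exact Or.inl ⟨2 ^ (n - 1), Nat.le_self_pow (by omega) 2, ⟨f⟩⟩
  · exfalso
    have hsub : W' ≤ C := by
      intro w hw
      have hww : w * w = 1 := by
        have hw' : (w : X) ∈ W := mem_subgroupOf.1 hw
        obtain ⟨_, ⟨c, hc', rfl⟩, hce⟩ := hw'
        refine Subtype.ext ?_
        show (w : X) * w = 1
        rw [← hce, ← map_mul, ← map_mul, hc'.1, map_one, map_one]
      rcases Cfsg.Lib.CyclicMax.cases h2 w with ⟨i, hi⟩ | ⟨i, hi⟩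
      · rw [← hab, hi]; exact zpow_mem (mem_zpowers a) i
      · exfalso
        rw [hi, Cfsg.Lib.CyclicMax.mul_b_mul_b h2, Cfsg.Lib.CyclicMax.zpow_eq_one h2,
          show i + -1 * i + (2 : ℤ) ^ (n - 2) = 2 ^ (n - 2) by ring] at hww
        have h5 := Int.le_of_dvd (by positivity) hww
        have h6 : (2 : ℤ) ^ (n - 2) < 2 ^ (n - 1) := pow_lt_pow_right₀ (by norm_num) (by omega)
        omega
    haveI : IsCyclic W' := isCyclic_of_le hsub
    have h5 := IsCyclic.exponent_eq_card (α := W')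
    have h6 : Monoid.exponent W' ∣ 2 := Monoid.exponent_dvd_of_forall_pow_eq_one fun w => by
      have hw' : ((w : (Q : Subgroup X)) : X) ∈ W := mem_subgroupOf.1 w.2
      obtain ⟨_, ⟨c, hc', rfl⟩, hce⟩ := hw'
      refine Subtype.ext (Subtype.ext ?_)
      rw [Subgroup.coe_pow, Subgroup.coe_pow, ← hce, ← map_pow, ← map_pow, pow_two, hc'.1, map_one, map_one]
      rfl
    rw [h5, hW'4] at h6
    norm_num at h6
  · exfalso
    obtain ⟨k, hk⟩ : ∃ k, n - 1 = k + 3 := ⟨n - 4, by omega⟩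
    rw [hk, show n - 2 = k + 2 by omega] at h3
    obtain ⟨hm, ho⟩ := Cfsg.Lib.CyclicMax.sq_mem_center_of_modular h3
    have hz : a ^ (2 : ℕ) ∈ center ↥(Q : Subgroup X) := by
      rwa [← zpow_natCast]
    have h5 := Subgroup.orderOf_dvd_natCard _ hz
    rw [(Cfsg.Lib.MaxClass.center_facts n _ hn hn3 hc).1, ho] at h5
    have h6 := Nat.le_of_dvd two_pos h5
    have h7 : 2 ^ 2 ≤ 2 ^ (k + 2) := Nat.pow_le_pow_right two_pos (by omega)
    omega
  · refine Or.inr (Cfsg.Lib.CyclicMax.quasiDihedral_of_twoGen (by omega) ?_ (a := a) (b := b) (m := n - 1))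
    rw [show n - 1 - 1 = n - 2 by omega]
    exact h4

end Cfsg.Lib.SolvCentType
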