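/-
Groups with solvable involution centralisers in which `Ω₁(Z(S))` is centralised only inside `N(S)`:
common setting, the residual `O²(G)` and heredity of characteristic 2 type.
-/
import Cfsg.Agent.BenderSE.Dependents.FourConnected
import Cfsg.Agent.BenderSE.Dependents.CoreRows
import Cfsg.Agent.BenderSE.Dependents.CriterionGeneral
import Cfsg.Agent.TwoFusion.FusionTools
import Cfsg.Prelude.Def_Transfer
import Cfsg.Prelude.Def_PLocal

set_option autoImplicit false
set_option linter.unusedSectionVars false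
set_option linter.style.haveILetI false

namespace Cfsg.Lib.SolvCentType

open Subgroup Cfsg.Lib.Components Cfsg.Lib.BenderSE

universe u

variable {G : Type u} [Group G] [Finite G]

/-- `Ω₁(Z(S))` -/
abbrev omegaZ (S : Subgroup G) : Subgroup G := Cfsg.omegaOne 2 (S ⊓ centralizer (S : Set G))

/-- the hypotheses -/
structure Hyp (G : Type*) [Group G] [Finite G] : Prop where
  even : Even (Nat.card G)
  sol : ∀ t : G, orderOf t = 2 → Group.IsSolvable ↥(centralizer ({t} : Set G))
  cz : ∀ S : Sylow 2 G, centralizer (omegaZ (S : Subgroup G) : Set G) ≤ normalizer ((S : Subgroup G) : Set G)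
  odd : Cfsg.pPrimeCore 2 G = ⊥
  core : Cfsg.pCore 2 G = ⊥

theorem mem_omegaZ {S : Subgroup G} {x : G} :
    x ∈ omegaZ S ↔ x ∈ S ∧ x * x = 1 ∧ ∀ s ∈ S, s * x = x * s := by
  constructor
  · intro hx
    induction hx using Subgroup.closure_induction with
    | mem y hy => exact ⟨hy.1.1, by rw [← pow_two]; exact hy.2, fun s hs => mem_centralizer_iff.1 hy.1.2 s (SetLike.mem_coe.2 hs)⟩
    | one => exact ⟨one_mem S, one_mul 1, fun s _ => by simp⟩
    | mul a b _ _ ha hb =>
      refine ⟨mul_mem ha.1 hb.1, ?_, fun s hs => ((show Commute s a from ha.2.2 s hs).mul_right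
        (show Commute s b from hb.2.2 s hs)).eq⟩
      rw [(show Commute b a from ha.2.2 b hb.1).mul_mul_mul_comm, ha.2.1, hb.2.1, one_mul]
    | inv a _ ha => exact ⟨inv_mem ha.1, by rw [← mul_inv_rev, ha.2.1, inv_one],
        fun s hs => ((show Commute s a from ha.2.2 s hs).inv_right).eq⟩
  · exact fun ⟨h1, h2, h3⟩ => subset_closure ⟨⟨h1, mem_centralizer_iff.2 fun s hs => h3 s hs⟩, by rw [pow_two]; exact h2⟩

theorem conj_smul_coe (g : G) (S : Sylow 2 G) {x : G} :
    x ∈ ((g • S : Sylow 2 G) : Subgroup G) ↔ g⁻¹ * x * g ∈ (S : Subgroup G) := by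
  constructor
  · rintro ⟨s, hs, rfl⟩; simp [mul_assoc]; exact hs
  · exact fun h => ⟨_, h, by simp [mul_assoc]⟩

/-- a `2`-subgroup normalising a Sylow `2`-subgroup lies in it -/
theorem le_of_le_normalizer {T : Sylow 2 G} {Q : Subgroup G} (hQ : IsPGroup 2 Q)
    (h : Q ≤ normalizer ((T : Subgroup G) : Set G)) : Q ≤ (T : Subgroup G) := by
  haveI : Fact (Nat.Prime 2) := ⟨Nat.prime_two⟩
  have h' : Q ⊓ normalizer ((T : Subgroup G) : Set G) = Q ⊓ (T : Subgroup G) := hQ.inf_normalizer_sylow T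
  rw [inf_eq_left.2 h] at h'
  exact h'.le.trans inf_le_right

theorem isPGroup_zpowers_two {x : G} (hx : x * x = 1) : IsPGroup 2 (zpowers x) := by
  rintro ⟨y, hy⟩
  obtain ⟨k, rfl⟩ := mem_zpowers_iff.1 hy
  refine ⟨1, Subtype.ext ?_⟩
  show (x ^ k) ^ (2 ^ 1) = 1
  rw [pow_one, pow_two, ← (Commute.refl x).mul_zpow, hx, one_zpow]

/-- `K` is characteristic 2 type when `G` is and `K` is normal of even order -/
theorem charTwoType_normal (hG : Cfsg.IsCharacteristicTwoType G) (K : Subgroup G) [K.Normal]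
    (hK : Even (Nat.card K)) : Cfsg.IsCharacteristicTwoType K := by
  haveI : Fact (Nat.Prime 2) := ⟨Nat.prime_two⟩
  refine ⟨hK, fun T hT hT1 => ?_⟩
  set T' := T.map K.subtype
  have hT' : T' ≠ ⊥ := fun h => hT1 ((map_eq_bot_iff_of_injective _ K.subtype_injective).1 h)
  have hchar : CharPGroup 2 ↥(normalizer (T' : Set G)) := hG.2 T' (hT.map _) hT'
  set N := normalizer (T' : Set G)
  have hnorm : (normalizer (T : Set K)).map K.subtype = K ⊓ N := by
    ext x
    constructor
    · rintro ⟨k, hk, rfl⟩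
      refine ⟨k.2, mem_normalizer_iff.2 fun y => ⟨?_, ?_⟩⟩
      · rintro ⟨t, ht, rfl⟩
        exact ⟨k * t * k⁻¹, (mem_normalizer_iff.1 hk t).1 ht, rfl⟩
      · rintro ⟨t, ht, hte⟩
        exact ⟨k⁻¹ * t * k, (mem_normalizer_iff''.1 hk t).1 ht, by
          show (k : G)⁻¹ * K.subtype t * k = y
          rw [hte]; simp [mul_assoc]⟩
    · rintro ⟨hxK, hxN⟩
      refine ⟨⟨x, hxK⟩, mem_normalizer_iff.2 fun t => ⟨fun ht => ?_, fun ht => ?_⟩, rfl⟩
      · obtain ⟨s, hs, hse⟩ := (mem_normalizer_iff.1 hxN t).1 ⟨t, ht, rfl⟩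
        rwa [show (⟨x, hxK⟩ : K) * t * ⟨x, hxK⟩⁻¹ = s from Subtype.ext hse.symm]
      · obtain ⟨s, hs, hse⟩ := (mem_normalizer_iff.1 hxN t).2 ⟨_, ht, rfl⟩
        rwa [show t = s from Subtype.ext hse.symm]
  haveI : ((K ⊓ N).subgroupOf N).Normal := by
    rw [inf_subgroupOf_right]; infer_instance
  exact charP_congr ((subgroupOfEquivOfLe inf_le_right).trans ((MulEquiv.subgroupCongr hnorm).symm.trans
    ((normalizer (T : Set K)).equivMapOfInjective _ K.subtype_injective).symm))
    (charP_subnormal hchar (Subgroup.Normal.isSubnormal (H := (K ⊓ N).subgroupOf N) inferInstance))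

/-- the core of a centraliser in a normal subgroup lies in the core of the centraliser -/
theorem core_normal_le (K : Subgroup G) [K.Normal] (t : K) :
    (Cfsg.centralizerPPrimeCore 2 t).map K.subtype ≤ Cfsg.centralizerPPrimeCore 2 (t : G) := by
  haveI : Fact (Nat.Prime 2) := ⟨Nat.prime_two⟩
  set C := centralizer ({(t : G)} : Set G)
  set X := (Cfsg.centralizerPPrimeCore 2 t).map K.subtype with hX
  have hXC : X ≤ C := by
    rintro _ ⟨x, hx, rfl⟩
    exact mem_centralizer_singleton_iff.2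
      (congrArg Subtype.val (mem_centralizer_singleton_iff.1 (centralizerPPrimeCore_le_centralizer t hx)))
  haveI : (X.subgroupOf C).Normal := by
    refine ⟨fun x hx g => ?_⟩
    obtain ⟨y, hy, hye⟩ := mem_subgroupOf.1 hx
    set φ : K ≃* K := MulAut.conjNormal (g : G)
    have hφ : φ t = t := Subtype.ext (by
      show ((MulAut.conjNormal (g : G) t : K) : G) = t
      rw [MulAut.conjNormal_apply]
      exact mul_inv_eq_iff_eq_mul.2 (mem_centralizer_singleton_iff.1 g.2))
    have h := centralizerPPrimeCore_map_equiv (p := 2) φ t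
    rw [hφ] at h
    refine mem_subgroupOf.2 ⟨φ y, h ▸ mem_map_of_mem _ hy, ?_⟩
    show ((MulAut.conjNormal (g : G) y : K) : G) = _
    rw [MulAut.conjNormal_apply, show (y : G) = (x : G) from hye]
    rfl
  have hcop : (Nat.card (X.subgroupOf C)).Coprime 2 := by
    rw [Nat.card_congr (subgroupOfEquivOfLe hXC).toEquiv, hX, card_map_of_injective K.subtype_injective]
    exact centralizerPPrimeCore_card_coprime t
  rw [← map_subgroupOf_eq_of_le hXC]
  exact Subgroup.map_mono (le_pPrimeCore hcop)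

/-- solvable centralisers and trivial cores give characteristic 2 type to a normal subgroup -/
theorem charTwoType_of_cores_normal (hsol : ∀ t : G, orderOf t = 2 → Group.IsSolvable ↥(centralizer ({t} : Set G)))
    (K : Subgroup G) [K.Normal] (hK : Even (Nat.card K))
    (hcore : ∀ t : G, t ∈ K → orderOf t = 2 → Cfsg.centralizerPPrimeCore 2 t = ⊥) :
    Cfsg.IsCharacteristicTwoType K := by
  refine charTwoType_of_cores hK (CoreRows.nonComponent_of_solvable fun t ht => ?_) fun t ht => ?_
  · haveI := hsol (t : G) (by rwa [orderOf_coe])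
    let f : centralizer ({t} : Set K) →* centralizer ({(t : G)} : Set G) :=
      { toFun := fun x => ⟨x.1.1, mem_centralizer_singleton_iff.2
          (congrArg Subtype.val (mem_centralizer_singleton_iff.1 x.2))⟩
        map_one' := rfl
        map_mul' := fun _ _ => rfl }
    exact Group.isSolvable_of_isSolvable_injective (f := f) fun a b h =>
      Subtype.ext (Subtype.ext (congrArg (fun c : centralizer ({(t : G)} : Set G) => (c : G)) h))
  · have h := core_normal_le K t
    rw [hcore (t : G) t.2 (by rwa [orderOf_coe]), le_bot_iff,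
      map_eq_bot_iff_of_injective _ K.subtype_injective] at h
    exact h

theorem nonComponent (h : Hyp G) : ¬ Cfsg.IsComponentType G := CoreRows.nonComponent_of_solvable h.sol

theorem balance (h : Hyp G) {a b : G} (ha : orderOf a = 2) (hb : orderOf b = 2) (hab : a * b = b * a) :
    Cfsg.centralizerPPrimeCore 2 a ⊓ centralizer {b} ≤ Cfsg.centralizerPPrimeCore 2 b :=
  Cfsg.Lib.Misc.ConstrainedCores.balance (constrained_of_nonComponent (nonComponent h)) ha hb hab

section Residual

variable (h : Hyp G) (S : Sylow 2 G)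

theorem sup_res : Cfsg.pResidual 2 G ⊔ (S : Subgroup G) = ⊤ := by
  haveI : Fact (Nat.Prime 2) := ⟨Nat.prime_two⟩
  exact Cfsg.Lib.Transfer.pResidual_sup_sylow S

/-- every element is a product from `S` and `O²(G)` -/
theorem exists_decomp (g : G) : ∃ s ∈ (S : Subgroup G), ∃ k ∈ Cfsg.pResidual 2 G, g = s * k := by
  have hg : g ∈ (S : Subgroup G) ⊔ Cfsg.pResidual 2 G := by
    rw [sup_comm, sup_res S]; exact mem_top g
  obtain ⟨s, hs, k, hk, rfl⟩ := mem_sup_of_normal_right.1 hg
  exact ⟨s, hs, k, hk, rfl⟩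

/-- a Sylow subgroup of `O²(G)` -/
theorem exists_sylow_res : ∃ P : Sylow 2 ↥(Cfsg.pResidual 2 G),
    (P : Subgroup ↥(Cfsg.pResidual 2 G)) = (S : Subgroup G).subgroupOf (Cfsg.pResidual 2 G) :=
  CritDep.exists_sylow_inf S _ fun _ _ => by rw [normalizer_eq_top]; exact mem_top _

/-- involutions of `O²(G)` are conjugate into `S` by its elements -/
theorem exists_res_conj {t : G} (ht : orderOf t = 2) :
    ∃ a ∈ Cfsg.pResidual 2 G, a * t * a⁻¹ ∈ (S : Subgroup G) := by
  obtain ⟨g, hg⟩ := Cfsg.Lib.TwoFusion.exists_conj_mem_sylow S (k := 1) (by rw [ht, pow_one])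
  obtain ⟨s, hs, k, hk, rfl⟩ := exists_decomp S g
  refine ⟨k, hk, ?_⟩
  have h1 := mul_mem (mul_mem (inv_mem hs) hg) hs
  rwa [show s⁻¹ * (s * k * t * (s * k)⁻¹) * s = k * t * k⁻¹ by group] at h1

include h S

theorem even_res : Even (Nat.card ↥(Cfsg.pResidual 2 G)) := by
  haveI : Fact (Nat.Prime 2) := ⟨Nat.prime_two⟩
  by_contra hodd
  rw [Nat.not_even_iff_odd] at hodd
  have hb : Cfsg.pResidual 2 G = ⊥ := le_bot_iff.1 (h.odd ▸ le_pPrimeCore (Nat.coprime_two_right.2 hodd))
  have hS : (S : Subgroup G) = ⊤ := by rw [← sup_res S, hb, bot_sup_eq]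
  have hle : (S : Subgroup G) ≤ Cfsg.pCore 2 G := by
    haveI : (S : Subgroup G).Normal := hS ▸ inferInstance
    exact le_pCore S.2
  rw [h.core, hS, top_le_iff] at hle
  have h2 := h.even
  rw [← Subgroup.card_top (G := G), ← hle, card_bot] at h2
  exact Nat.not_even_one h2

/-- a central involution of `S` in `O²(G)` -/
theorem exists_central_res : ∃ z ∈ omegaZ (S : Subgroup G) ⊓ Cfsg.pResidual 2 G, orderOf z = 2 := by
  haveI : Fact (Nat.Prime 2) := ⟨Nat.prime_two⟩
  set K := (Cfsg.pResidual 2 G).subgroupOf (S : Subgroup G)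
  obtain ⟨t, htK, ht⟩ := Cfsg.Lib.StrongEmb.exists_involution_of_even (even_res h S)
  obtain ⟨a, ha, hat⟩ := exists_res_conj S ht
  have hK : K ≠ ⊥ := by
    intro hb
    have : (⟨a * t * a⁻¹, hat⟩ : (S : Subgroup G)) ∈ K := mem_subgroupOf.2 (mul_mem (mul_mem ha htK) (inv_mem ha))
    rw [hb, mem_bot] at this
    have h1 : orderOf (a * t * a⁻¹) = 2 := by rw [orderOf_conj', ht]
    rw [show a * t * a⁻¹ = 1 from congrArg Subtype.val this, orderOf_one] at h1
    omega
  haveI : K.Normal := inferInstance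
  obtain ⟨z, hzK, hzc, hz⟩ := Cfsg.Lib.PGroups.exists_mem_center_of_normal_ne_bot S.2 hK
  refine ⟨z, ⟨mem_omegaZ.2 ⟨z.2, ?_, fun s hs => congrArg Subtype.val (mem_center_iff.1 hzc ⟨s, hs⟩)⟩, hzK⟩, ?_⟩
  · have h1 := pow_orderOf_eq_one (z : G)
    rw [orderOf_coe, hz, pow_two] at h1
    exact h1
  · rw [orderOf_coe, hz]

end Residual

end Cfsg.Lib.SolvCentType
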