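/-
A conjugate of the central involution outside a subgroup of index two makes the Sylow subgroup thin, and
transfer moves involutions of `O²(G)` into a subgroup of index two.
-/
import Cfsg.Agent.SolvCentType.Basic
import Cfsg.Agent.PGroups.MaxClass

set_option autoImplicit false
set_option linter.unusedSectionVars false
set_option linter.style.haveILetI false

namespace Cfsg.Lib.SolvCentType

open Subgroup Cfsg.Lib.BenderSE

universe u

variable {G : Type u} [Group G] [Finite G]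

/-- in a subgroup of index two every element times an outside element -/
theorem mul_mem_two {B X : Subgroup G} (hB : B.relIndex X = 2) {a b : G} (ha : a ∈ X) (hb : b ∈ X) :
    a * b ∈ B ↔ (a ∈ B ↔ b ∈ B) :=
  mul_mem_iff_of_index_two (H := B.subgroupOf X) hB (a := ⟨a, ha⟩) (b := ⟨b, hb⟩)

/-- the elements centralising `v` when the class of `v` in `X` is `{v, zv}` -/
theorem relIndex_centralizer_two {X : Subgroup G} {z v : G} (hzX : ∀ x ∈ X, x * z = z * x) (hz : z * z = 1)
    (hv : ∀ x ∈ X, x * v * x⁻¹ = v ∨ x * v * x⁻¹ = z * v) (hne : ∃ x ∈ X, x * v ≠ v * x) :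
    (X ⊓ centralizer ({v} : Set G)).relIndex X = 2 := by
  obtain ⟨a, ha, hav⟩ := hne
  have haz : a * v * a⁻¹ = z * v := (hv a ha).resolve_left fun e => hav (mul_inv_eq_iff_eq_mul.1 e)
  have hmem : ∀ {x : G}, x ∈ X → (x ∈ X ⊓ centralizer ({v} : Set G) ↔ x * v * x⁻¹ = v) := fun {x} hx => by
    simp [mem_inf, hx, mem_centralizer_singleton_iff, mul_inv_eq_iff_eq_mul]
  have hzv : z * v ≠ v := fun e => hav (mul_inv_eq_iff_eq_mul.1 (haz.trans e))
  rw [relIndex, index_eq_two_iff]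
  refine ⟨⟨a, ha⟩, fun b => ?_⟩
  have hb := b.2
  have e : (b : G) * a * v * ((b : G) * a)⁻¹ = z * ((b : G) * v * (b : G)⁻¹) := by
    calc (b : G) * a * v * ((b : G) * a)⁻¹ = (b : G) * (a * v * a⁻¹) * (b : G)⁻¹ := by group
      _ = (b : G) * z * (v * (b : G)⁻¹) := by rw [haz]; group
      _ = z * ((b : G) * v * (b : G)⁻¹) := by rw [hzX b hb]; group
  simp only [mem_subgroupOf, coe_mul]
  rw [hmem hb, hmem (mul_mem hb ha), e]
  rcases hv b hb with h | h
  · exact Or.inr ⟨h, by rw [h]; exact hzv⟩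
  · exact Or.inl ⟨by rw [h, ← mul_assoc, hz, one_mul], by rw [h]; exact hzv⟩

/-- `S` has a subgroup of index two with `z` as its only involution -/
def Thin (S : Subgroup G) (z : G) : Prop :=
  ∃ T : Subgroup G, T ≤ S ∧ T.relIndex S = 2 ∧ ∀ x ∈ T, x * x = 1 → x = 1 ∨ x = z

theorem not_thin {S E : Subgroup G} {z : G} (hES : E ≤ S) (hE : Cfsg.IsElementaryAbelian 2 E)
    (hE8 : 8 ≤ Nat.card E) : ¬ Thin S z := by
  rintro ⟨T, -, hT, hinv⟩
  have h1 : (T ⊓ E).relIndex E ≤ 2 := by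
    rw [inf_relIndex_right]
    exact Nat.le_of_dvd two_pos (hT ▸ relIndex_dvd_of_le_of_normal hES hT)
  have h2 : Nat.card ↥(T ⊓ E) ≤ 2 := by
    have hsub : ((T ⊓ E : Subgroup G) : Set G) ⊆ {1, z} := fun x hx =>
      hinv x hx.1 (by rw [← pow_two]; exact hE.2 x hx.2)
    calc Nat.card ↥(T ⊓ E) = ((T ⊓ E : Subgroup G) : Set G).ncard := Nat.card_coe_set_eq _
      _ ≤ ({1, z} : Set G).ncard := Set.ncard_le_ncard hsub
      _ ≤ 2 := (Set.ncard_insert_le _ _).trans (by simp)
  have h3 := relIndex_mul_relIndex ⊥ (T ⊓ E) E bot_le inf_le_right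
  rw [relIndex_bot_left, relIndex_bot_left] at h3
  have := Nat.mul_le_mul h2 h1
  omega
where
  relIndex_dvd_of_le_of_normal {S E T : Subgroup G} (hES : E ≤ S) (hT : T.relIndex S = 2) :
      T.relIndex E ∣ T.relIndex S := by
    haveI : (T.subgroupOf S).Normal := normal_of_index_eq_two hT
    have := relIndex_dvd_index_of_normal (T.subgroupOf S) (E.subgroupOf S)
    rwa [relIndex_subgroupOf hES] at this

variable (h : Hyp G) (S : Sylow 2 G) {z : G} (hz : omegaZ (S : Subgroup G) = zpowers z) (hz2 : orderOf z = 2)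

include hz hz2

theorem z_mem : z ∈ (S : Subgroup G) := (mem_omegaZ.1 (hz ▸ mem_zpowers z)).1

theorem z_comm {s : G} (hs : s ∈ (S : Subgroup G)) : s * z = z * s :=
  (mem_omegaZ.1 (hz ▸ mem_zpowers z)).2.2 s hs

theorem eq_z {x : G} (hxS : x ∈ (S : Subgroup G)) (hx : orderOf x = 2) (hxc : ∀ s ∈ (S : Subgroup G), s * x = x * s) :
    x = z := by
  have hxz : x ∈ zpowers z := hz ▸ mem_omegaZ.2 ⟨hxS, by rw [← pow_two, ← hx, pow_orderOf_eq_one], hxc⟩
  obtain ⟨k, hk⟩ := mem_zpowers_iff.1 hxz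
  rw [← zpow_mod_orderOf, hz2] at hk
  rcases Int.emod_two_eq_zero_or_one k with e | e <;> rw [Nat.cast_ofNat, e] at hk
  · rw [← hk, zpow_zero, orderOf_one] at hx; omega
  · rw [← hk, zpow_one]

/-- a cyclic subgroup of index two has `z` as its involution -/
theorem thin_of_cyclic {C : Subgroup ↥(S : Subgroup G)} (hC : IsCyclic C) (hCi : C.index = 2) :
    Thin (S : Subgroup G) z := by
  classical
  refine ⟨C.map (S : Subgroup G).subtype, map_subtype_le _, ?_, ?_⟩
  · rw [relIndex, subgroupOf, comap_map_eq_self_of_injective (S : Subgroup G).subtype_injective]; exact hCi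
  rintro _ ⟨x, hxC, rfl⟩ hxx
  by_cases hx1 : x = 1
  · exact Or.inl (by rw [hx1]; rfl)
  refine Or.inr (eq_z S hz hz2 x.2 (Cfsg.Lib.InvolCalc.order_two_of_mul_self hxx fun e => hx1 (Subtype.ext e))
    fun s hs => ?_)
  haveI : C.Normal := normal_of_index_eq_two hCi
  have hy : (⟨s, hs⟩ : ↥(S : Subgroup G)) * x * ⟨s, hs⟩⁻¹ ∈ C := ‹C.Normal›.conj_mem x hxC _
  haveI := Fintype.ofFinite C
  have hcard := IsCyclic.card_pow_eq_one_le (α := C) two_pos
  by_contra hne
  have hne' : (⟨_, hy⟩ : C) ≠ ⟨x, hxC⟩ := fun e => hne (mul_inv_eq_iff_eq_mul.1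
    (congrArg (fun c : C => ((c : ↥(S : Subgroup G)) : G)) e))
  have hxx' : x * x = 1 := Subtype.ext hxx
  have hsub : ({1, ⟨x, hxC⟩, ⟨_, hy⟩} : Finset C) ⊆ Finset.univ.filter (fun c : C => c ^ 2 = 1) := by
    intro c hc
    simp only [Finset.mem_insert, Finset.mem_singleton] at hc
    refine Finset.mem_filter.2 ⟨Finset.mem_univ _, ?_⟩
    rcases hc with rfl | rfl | rfl
    · exact one_pow 2
    · exact Subtype.ext (by rw [coe_pow, pow_two, hxx']; rfl)
    · refine Subtype.ext ?_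
      show ((⟨s, hs⟩ : ↥(S : Subgroup G)) * x * ⟨s, hs⟩⁻¹) ^ 2 = 1
      rw [conj_pow, pow_two, hxx', mul_one, mul_inv_cancel]
  have h3 := Finset.card_le_card hsub
  rw [Finset.card_insert_of_notMem, Finset.card_pair (Ne.symm hne')] at h3
  · omega
  · simp only [Finset.mem_insert, Finset.mem_singleton, not_or]
    refine ⟨fun e => hx1 (congrArg Subtype.val e).symm, fun e => hx1 ?_⟩
    have e1 : (⟨s, hs⟩ : ↥(S : Subgroup G)) * x * ⟨s, hs⟩⁻¹ = 1 := (congrArg Subtype.val e).symm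
    exact conj_eq_one_iff.1 e1

include h

theorem centralizer_z : centralizer ({z} : Set G) ≤ normalizer ((S : Subgroup G) : Set G) := by
  refine le_trans (fun g hg => ?_) (h.cz S)
  rw [hz]
  refine mem_centralizer_iff.2 fun y hy => ?_
  obtain ⟨k, rfl⟩ := mem_zpowers_iff.1 hy
  exact ((Commute.symm (mem_centralizer_singleton_iff.1 hg : Commute g z)).zpow_left k).eq

/-- the centraliser of a conjugate normalises the conjugate Sylow subgroup -/
theorem centralizer_conj (g : G) :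
    centralizer ({g * z * g⁻¹} : Set G) ≤ normalizer ((g • S : Sylow 2 G) : Set G) := by
  intro x hx
  have h1 : g⁻¹ * x * g ∈ centralizer ({z} : Set G) := mem_centralizer_singleton_iff.2 (by
    have h2 := mem_centralizer_singleton_iff.1 hx
    calc g⁻¹ * x * g * z = g⁻¹ * (x * (g * z * g⁻¹)) * g := by group
      _ = z * (g⁻¹ * x * g) := by rw [h2]; group)
  have h2 := centralizer_z h S hz hz2 h1
  rw [mem_normalizer_iff] at h2
  refine mem_normalizer_iff.2 fun y => ?_
  show y ∈ ((g • S : Sylow 2 G) : Subgroup G) ↔ x * y * x⁻¹ ∈ ((g • S : Sylow 2 G) : Subgroup G)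
  rw [conj_smul_coe, conj_smul_coe]
  have := h2 (g⁻¹ * y * g)
  rwa [show g⁻¹ * x * g * (g⁻¹ * y * g) * (g⁻¹ * x * g)⁻¹ = g⁻¹ * (x * y * x⁻¹) * g by group] at this

omit h hz hz2 in
theorem exists_normalizing {P : Subgroup G} (T : Sylow 2 G) (hPT : P ≤ (T : Subgroup G))
    (hne : ¬ (T : Subgroup G) ≤ P) : ∃ s ∈ (T : Subgroup G), s ∉ P ∧ ∀ x ∈ P, s * x * s⁻¹ ∈ P := by
  haveI : Fact (Nat.Prime 2) := ⟨Nat.prime_two⟩
  haveI : Group.IsNilpotent ↥(T : Subgroup G) := T.2.isNilpotent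
  have hlt := Group.normalizerCondition_of_isNilpotent (P.subgroupOf (T : Subgroup G))
    (lt_top_iff_ne_top.2 fun e => hne (subgroupOf_eq_top.1 e))
  obtain ⟨s, hs, hsP⟩ := SetLike.exists_of_lt hlt
  exact ⟨s, s.2, fun hm => hsP (mem_subgroupOf.2 hm), fun x hx =>
    mem_subgroupOf.1 ((mem_normalizer_iff.1 hs ⟨x, hPT hx⟩).1 (mem_subgroupOf.2 hx))⟩

/-- a conjugate of `z` outside `B` with few involutions around it makes `S` thin -/
theorem thin_of_outside {u g : G} (hu : g * z * g⁻¹ = u) (huS : u ∈ (S : Subgroup G)) (hne : u ≠ z)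
    {B : Subgroup G} (hB : B.relIndex (S : Subgroup G) = 2) (hzB : z ∈ B) (huB : u ∉ B)
    (hinv : ∀ x ∈ (S : Subgroup G), x * x = 1 → x * u = u * x → x = 1 ∨ x = z ∨ x = u ∨ x = z * u) :
    Thin (S : Subgroup G) z := by
  haveI : Fact (Nat.Prime 2) := ⟨Nat.prime_two⟩
  have hzS := z_mem S hz hz2
  have hzz : z * z = 1 := by rw [← pow_two, ← hz2, pow_orderOf_eq_one]
  have hu2 : orderOf u = 2 := by rw [← hu, orderOf_conj', hz2]
  have huu : u * u = 1 := by rw [← pow_two, ← hu2, pow_orderOf_eq_one]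
  have hzu : z * u = u * z := (z_comm S hz hz2 huS).symm
  set T : Sylow 2 G := g • S with hTdef
  have hTu : ∀ x ∈ (T : Subgroup G), x * u = u * x := fun x hx => by
    have h1 := z_comm S hz hz2 ((conj_smul_coe g S).1 hx)
    rw [← hu]
    calc x * (g * z * g⁻¹) = g * (g⁻¹ * x * g * z) * g⁻¹ := by group
      _ = g * z * g⁻¹ * x := by rw [h1]; group
  have huT : u ∈ (T : Subgroup G) := (conj_smul_coe g S).2 (by
    rw [← hu, show g⁻¹ * (g * z * g⁻¹) * g = z by group]; exact hzS)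
  have hCu : centralizer ({u} : Set G) ≤ normalizer ((T : Subgroup G) : Set G) := by
    rw [← hu]; exact centralizer_conj h S hz hz2 g
  set P := (S : Subgroup G) ⊓ centralizer ({u} : Set G) with hP
  have hPT : P ≤ (T : Subgroup G) :=
    le_of_le_normalizer (S.2.to_le inf_le_left) (inf_le_right.trans hCu)
  have hTP : ∀ x ∈ (T : Subgroup G), x * z = z * x → x ∈ P := fun x hx hxz => by
    refine ⟨(le_of_le_normalizer (T.2.to_le (inf_le_left (b := centralizer ({z} : Set G))))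
      (inf_le_right.trans (centralizer_z h S hz hz2))) ⟨hx, mem_centralizer_singleton_iff.2 hxz⟩, ?_⟩
    exact mem_centralizer_singleton_iff.2 (hTu x hx)
  have hzP : z ∈ P := ⟨hzS, mem_centralizer_singleton_iff.2 hzu⟩
  have hPinv : ∀ x ∈ P, x * x = 1 → x = 1 ∨ x = z ∨ x = u ∨ x = z * u := fun x hx hxx =>
    hinv x hx.1 hxx (mem_centralizer_singleton_iff.1 hx.2)
  have hz1 : z ≠ 1 := fun e => by rw [e, orderOf_one] at hz2; omega
  have hu1 : u ≠ 1 := fun e => huB (e ▸ one_mem B)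
  have huP : u ∈ P := ⟨huS, mem_centralizer_singleton_iff.2 rfl⟩
  -- neither Sylow subgroup centralises both
  obtain ⟨s, hs, hsP, hsn⟩ := exists_normalizing S (inf_le_left : P ≤ (S : Subgroup G)) fun hle =>
    hne (eq_z S hz hz2 huS hu2 fun y hy => mem_centralizer_singleton_iff.1 (hle hy).2)
  obtain ⟨t, ht, htP, htn⟩ := exists_normalizing T hPT fun hle => hne (by
    have h1 : g⁻¹ * z * g = z := eq_z S hz hz2 ((conj_smul_coe g S).1 (hPT hzP))
      (by rw [show g⁻¹ * z * g = g⁻¹ * z * g⁻¹⁻¹ by group, orderOf_conj', hz2]) fun y hy => by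
        have h2 : g * y * g⁻¹ ∈ (T : Subgroup G) := (conj_smul_coe g S).2 (by
          rw [show g⁻¹ * (g * y * g⁻¹) * g = y by group]; exact hy)
        have h3 := z_comm S hz hz2 (hle h2).1
        calc y * (g⁻¹ * z * g) = g⁻¹ * (g * y * g⁻¹ * z) * g := by group
          _ = g⁻¹ * z * g * y := by rw [h3]; group
    rw [← hu]
    calc g * z * g⁻¹ = g * (g⁻¹ * z * g) * g⁻¹ := by rw [h1]
      _ = z := by group)
  have hsu : s * u * s⁻¹ = z * u := by
    rcases hPinv _ (hsn u huP) (by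
      rw [show s * u * s⁻¹ * (s * u * s⁻¹) = s * (u * u) * s⁻¹ by group, huu, mul_one, mul_inv_cancel]) with e | e | e | e
    · exact (hu1 (conj_eq_one_iff.1 e)).elim
    · refine (hne ?_).elim
      calc u = s⁻¹ * (s * u * s⁻¹) * s := by group
        _ = s⁻¹ * (z * s) := by rw [e]; group
        _ = z := by rw [← z_comm S hz hz2 hs]; group
    · exact (hsP ⟨hs, mem_centralizer_singleton_iff.2 (mul_inv_eq_iff_eq_mul.1 e)⟩).elim
    · exact e
  have htz : t * z * t⁻¹ = z * u := by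
    rcases hPinv _ (htn z hzP) (by
      rw [show t * z * t⁻¹ * (t * z * t⁻¹) = t * (z * z) * t⁻¹ by group, hzz, mul_one, mul_inv_cancel]) with e | e | e | e
    · exact (hz1 (conj_eq_one_iff.1 e)).elim
    · exact (htP (hTP t ht (mul_inv_eq_iff_eq_mul.1 e))).elim
    · refine (hne ?_).elim
      calc u = t⁻¹ * (u * t) := by rw [← hTu t ht]; group
        _ = t⁻¹ * (t * z * t⁻¹ * t) := by rw [e]
        _ = z := by group
    · exact e
  set θ := s⁻¹ * t with hθ
  have hθz : θ * z * θ⁻¹ = u := by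
    calc θ * z * θ⁻¹ = s⁻¹ * (t * z * t⁻¹) * s := by rw [hθ]; group
      _ = s⁻¹ * (s * u * s⁻¹) * s := by rw [htz, ← hsu]
      _ = u := by group
  have hθS : ∀ w ∈ P, θ * w * θ⁻¹ ∈ (S : Subgroup G) := fun w hw => by
    have := mul_mem (mul_mem (inv_mem hs) (htn w hw).1) hs
    rwa [show s⁻¹ * (t * w * t⁻¹) * s = θ * w * θ⁻¹ by rw [hθ]; group] at this
  have hzuB : z * u ∉ B := fun hm => huB (by
    have := mul_mem hzB hm
    rwa [← mul_assoc, hzz, one_mul] at this)
  have hPB : ∀ x ∈ P, x ∈ B → x = 1 ∨ x = z := by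
    intro x hxP hxB
    by_cases hxx : x * x = 1
    · rcases hPinv x hxP hxx with e | e | e | e
      exacts [Or.inl e, Or.inr e, (huB (e ▸ hxB)).elim, (hzuB (e ▸ hxB)).elim]
    exfalso
    obtain ⟨k, hk⟩ := IsPGroup.iff_orderOf.1 (S.2.to_le (inf_le_left : P ≤ (S : Subgroup G))) ⟨x, hxP⟩
    rw [Subgroup.orderOf_mk] at hk
    have hk2 : 2 ≤ k := by
      by_contra hlt
      exact hxx (by
        rw [← pow_two]
        exact orderOf_dvd_iff_pow_eq_one.1 (hk ▸ (Nat.pow_dvd_pow 2 (show k ≤ 1 by omega)).trans (by norm_num)))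
    set w := x ^ 2 ^ (k - 2) with hw
    have hw4 : orderOf w = 4 := by
      rw [hw, orderOf_pow_of_dvd (by positivity) (hk ▸ Nat.pow_dvd_pow 2 (Nat.sub_le k 2)), hk,
        Nat.pow_div (Nat.sub_le k 2) two_pos, show k - (k - 2) = 2 by omega]
      norm_num
    have hwP : w ∈ P := pow_mem hxP _
    have hwB : w ∈ B := pow_mem hxB _
    have hw22 : orderOf (w ^ 2) = 2 := by
      rw [orderOf_pow_of_dvd two_ne_zero (by rw [hw4]; norm_num), hw4]
    have hwz : z = w ^ 2 := by
      rcases hPinv _ (pow_mem hwP 2) (by rw [← pow_two]; nth_rw 2 [← hw22]; exact pow_orderOf_eq_one _) with e | e | e | e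
      · rw [e, orderOf_one] at hw22; omega
      · exact e.symm
      · exact (huB (e ▸ pow_mem hwB 2)).elim
      · exact (hzuB (e ▸ pow_mem hwB 2)).elim
    refine huB ?_
    rw [← hθz, hwz, ← conj_pow, pow_two]
    exact (mul_mem_two hB (hθS w hwP) (hθS w hwP)).2 Iff.rfl
  -- `P` has order four
  have hset : (P : Set G) = {1, z, u, z * u} := by
    ext x
    constructor
    · intro hx
      simp only [Set.mem_insert_iff, Set.mem_singleton_iff]
      by_cases hxB : x ∈ B
      · rcases hPB x hx hxB with e | e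
        exacts [Or.inl e, Or.inr (Or.inl e)]
      · have hux : x * u ∈ B := (mul_mem_two hB hx.1 huS).2 (iff_of_false hxB huB)
        rcases hPB _ (mul_mem hx huP) hux with e | e
        · exact Or.inr (Or.inr (Or.inl (by rw [eq_inv_of_mul_eq_one_left e, inv_eq_of_mul_eq_one_right huu])))
        · exact Or.inr (Or.inr (Or.inr (by rw [← e, mul_assoc, huu, mul_one])))
    · rintro (rfl | rfl | rfl | rfl)
      exacts [one_mem P, hzP, huP, mul_mem hzP huP]
  have hP4 : Nat.card P = 2 ^ 2 := by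
    show Nat.card ↥(P : Set G) = 4
    have a1 : z * u ≠ 1 := fun e => hne (by rw [eq_inv_of_mul_eq_one_right e, inv_eq_of_mul_eq_one_right hzz])
    rw [Nat.card_coe_set_eq, hset, Set.ncard_insert_of_notMem (by simp [Ne.symm hz1, Ne.symm hu1, Ne.symm a1]),
      Set.ncard_insert_of_notMem (by simp [Ne.symm hne, hu1]), Set.ncard_pair (by simp [hz1])]
  set X := ↥(S : Subgroup G)
  obtain ⟨n, hn⟩ := IsPGroup.iff_card.1 S.2
  have hn3 : 3 ≤ n := by
    have hlt : P < (S : Subgroup G) := lt_of_le_of_ne inf_le_left fun e => hsP (show s ∈ P from e.symm ▸ hs)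
    have h1 : 4 < 2 ^ n := by
      rw [← hn]
      refine lt_of_le_of_lt (le_of_eq hP4.symm) (lt_of_le_of_ne (card_le_of_le hlt.le) fun e => ?_)
      exact hlt.ne (eq_of_le_of_card_ge hlt.le e.ge)
    by_contra hlt'
    have := Nat.pow_le_pow_right two_pos (show n ≤ 2 by omega)
    omega
  haveI : Group.IsNilpotent ↥(S : Subgroup G) := S.2.isNilpotent
  have hcent : centralizer ((P.subgroupOf (S : Subgroup G) : Subgroup ↥(S : Subgroup G)) : Set ↥(S : Subgroup G)) =
      P.subgroupOf (S : Subgroup G) := by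
    refine le_antisymm ?_ fun x hx => ?_
    · intro x hx
      exact mem_subgroupOf.2 (mem_inf.2 ⟨x.2, mem_centralizer_singleton_iff.2
        (congrArg Subtype.val (mem_centralizer_iff.1 hx ⟨u, huS⟩ (mem_subgroupOf.2 huP))).symm⟩)
    refine mem_centralizer_iff.2 fun y hy => Subtype.ext ?_
    show (y : G) * x = x * y
    have hy' : (y : G) ∈ ({1, z, u, z * u} : Set G) := hset ▸ mem_subgroupOf.1 hy
    have hxu : (x : G) * u = u * x := mem_centralizer_singleton_iff.1 (mem_subgroupOf.1 hx).2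
    have hxz : (x : G) * z = z * x := z_comm S hz hz2 x.2
    rcases hy' with e | e | e | e <;> rw [e]
    · simp
    · exact hxz.symm
    · exact hxu.symm
    · exact ((show Commute z x from hxz.symm).mul_left (show Commute u x from hxu.symm)).eq
  have hc := Cfsg.Lib.MaxClass.of_self_centralizing (p := 2) n _ hn (P.subgroupOf (S : Subgroup G))
    (by rw [Nat.card_congr (subgroupOfEquivOfLe (inf_le_left : P ≤ (S : Subgroup G))).toEquiv, hP4]) hcent
  obtain ⟨C, hC, hCi⟩ := Cfsg.Lib.MaxClass.exists_cyclic_index_two n _ hn hn3 hc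
  exact thin_of_cyclic S hz hz2 hC hCi

omit hz hz2

/-- transfer: involutions of `O²(G)` are fused into a subgroup of index two -/
theorem conj_into {B : Subgroup G} (hBS : B ≤ (S : Subgroup G)) (hB : B.relIndex (S : Subgroup G) = 2) {t : G}
    (htS : t ∈ (S : Subgroup G)) (htH : t ∈ Cfsg.pResidual 2 G) (ht : orderOf t = 2) :
    ∃ a ∈ Cfsg.pResidual 2 G, a * t * a⁻¹ ∈ B := by
  by_cases htB : t ∈ B
  · exact ⟨1, one_mem _, by simpa using htB⟩
  by_contra hno
  push Not at hno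
  set H := Cfsg.pResidual 2 G
  obtain ⟨P, hP⟩ := exists_sylow_res S
  set K := B.subgroupOf H with hKdef
  have hKP : K ≤ (P : Subgroup H) := hP ▸ fun x hx => mem_subgroupOf.2 (hBS (mem_subgroupOf.1 hx))
  have hKi : K.relIndex (P : Subgroup H) = 2 := by
    rw [relIndex, index_eq_two_iff]
    refine ⟨⟨⟨t, htH⟩, by rw [hP]; exact htS⟩, fun b => ?_⟩
    have hbS : ((b : H) : G) ∈ (S : Subgroup G) := by
      exact mem_subgroupOf.1 (hP ▸ b.2 : (b : H) ∈ (S : Subgroup G).subgroupOf H)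
    simp only [hKdef, mem_subgroupOf, coe_mul]
    rw [xor_iff_not_iff, mul_mem_two hB hbS htS]
    by_cases hb : ((b : H) : G) ∈ B <;> simp [hb, htB]
  obtain ⟨M, hM, hMi, -, -⟩ := Cfsg.Lib.TwoFusion.exists_index_two_of_transfer P K hKP hKi ⟨t, htH⟩
    (by rw [hP]; exact htS) (fun hm => htB (mem_subgroupOf.1 hm)) fun k a hka => by
      rcases Nat.even_or_odd k with ⟨j, rfl⟩ | ⟨j, rfl⟩
      · have h1 : (⟨t, htH⟩ : H) ^ (j + j) = 1 := orderOf_dvd_iff_pow_eq_one.1
          (by rw [Subgroup.orderOf_mk, ht]; omega)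
        rw [h1]; simp
      · have h1 : (⟨t, htH⟩ : H) ^ (2 * j + 1) = ⟨t, htH⟩ := by
          rw [pow_succ, orderOf_dvd_iff_pow_eq_one.1 (show orderOf (⟨t, htH⟩ : H) ∣ 2 * j by
            rw [Subgroup.orderOf_mk, ht]; omega), one_mul]
        rw [h1]
        exact iff_of_false (fun hm => hno a a.2 (mem_subgroupOf.1 hm)) fun hm => htB (mem_subgroupOf.1 hm)
  exact Cfsg.Lib.TwoFusion.pResidual_no_index_two M hMi

end Cfsg.Lib.SolvCentType
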