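/-
`|Ω₁(Z(S))| = 2` in 2-rank two: every involution of `O²(G)` is conjugate to the central one, whose core is
either trivial or has a strongly embedded normaliser.
-/
import Cfsg.Agent.SolvCentType.Fusion
import Cfsg.Agent.BenderSE.Criterion2.RankOne
import Cfsg.Agent.PGroups.NormalFour

set_option autoImplicit false
set_option linter.unusedSectionVars false
set_option linter.style.haveILetI false

namespace Cfsg.Lib.SolvCentType

open Subgroup Cfsg.Lib.Misc.FourConnected Cfsg.Lib.BenderSE Cfsg.Lib.BenderSE.FourConn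
open Cfsg.Lib.Components (centralizerPPrimeCore_le_centralizer centralizer_le_normalizer_centralizerPPrimeCore
  centralizerPPrimeCore_card_coprime centralizerPPrimeCore_map_equiv)

universe u

variable {G : Type u} [Group G] [Finite G]

/-- in a group of rank two the elementary four group is maximal -/
theorem mem_four_of_rank_two (h2 : Cfsg.PRankLE 2 2 G) {V : Subgroup G} (hV : IsKleinFour V) {x : G}
    (hx : x * x = 1) (hc : ∀ a ∈ V, a * x = x * a) : x ∈ V := by
  have hX : Cfsg.IsElementaryAbelian 2 (zpowers x) := ⟨inferInstance, fun y hy => by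
    obtain ⟨k, rfl⟩ := mem_zpowers_iff.1 hy
    rw [pow_two, ← (Commute.refl x).mul_zpow, hx, one_zpow]⟩
  have hA := Cfsg.Lib.Sft.elementary_sup (p := 2) (elementary_of_klein hV) hX fun a ha b hb => by
    obtain ⟨k, rfl⟩ := mem_zpowers_iff.1 hb
    exact ((show Commute a x from hc a ha).zpow_right k).eq
  have h4 : Nat.card ↥(V ⊔ zpowers x) ≤ Nat.card V := by
    rw [card_klein hV]
    exact (h2 _ hA.1 hA.2).trans (by norm_num)
  rw [eq_of_le_of_card_ge (le_sup_left : V ≤ V ⊔ zpowers x) h4]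
  exact mem_sup_right (mem_zpowers x)

theorem mul_self_of_two {x : G} (hx : orderOf x = 2) : x * x = 1 := FourConn.sq_of_two hx

variable (h : Hyp G) (S : Sylow 2 G) {z : G} (hz : omegaZ (S : Subgroup G) = zpowers z) (hz2 : orderOf z = 2)

/-- the data of a normal four group of `S` -/
structure NFour (S : Subgroup G) (z v : G) (V : Subgroup G) : Prop where
  klein : IsKleinFour V
  le : V ≤ S
  z_mem : z ∈ V
  v_mem : v ∈ V
  v_ne_one : v ≠ 1
  v_ne : v ≠ z
  elems : ∀ x ∈ V, x = 1 ∨ x = z ∨ x = v ∨ x = z * v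
  conj : ∀ s ∈ S, s * v * s⁻¹ = v ∨ s * v * s⁻¹ = z * v
  index : (S ⊓ centralizer ({v} : Set G)).relIndex S = 2
  mem_B : V ≤ S ⊓ centralizer ({v} : Set G)

theorem klein_elems {V : Subgroup G} (hV : IsKleinFour V) {a b : G} (ha : a ∈ V) (hb : b ∈ V) (ha1 : a ≠ 1)
    (hb1 : b ≠ 1) (hab : a ≠ b) : ∀ x ∈ V, x = 1 ∨ x = a ∨ x = b ∨ x = a * b := by
  haveI := hV
  have hab1 : a * b ≠ 1 := fun e => hab (by
    rw [eq_inv_of_mul_eq_one_right e, inv_eq_of_mul_eq_one_right (sq_of_klein ha)])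
  have hsub : ({1, a, b, a * b} : Set G) ⊆ (V : Set G) := by
    rintro x (rfl | rfl | rfl | rfl)
    exacts [one_mem V, ha, hb, mul_mem ha hb]
  have h4 : ({1, a, b, a * b} : Set G).ncard = 4 := by
    rw [Set.ncard_insert_of_notMem (by simp [Ne.symm ha1, Ne.symm hb1, Ne.symm hab1]),
      Set.ncard_insert_of_notMem (by simp [hab, hb1]), Set.ncard_pair (by simp [ha1])]
  have he := Set.eq_of_subset_of_ncard_le hsub (by
    rw [h4, ← Nat.card_coe_set_eq, SetLike.coe_sort_coe, IsKleinFour.card_four])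
  intro x hx
  have hx' : x ∈ ({1, a, b, a * b} : Set G) := he ▸ hx
  simpa using hx'

include hz hz2

theorem nfour_of_normal {U : Subgroup ↥(S : Subgroup G)} (hUn : U.Normal) (hU : IsKleinFour U) :
    ∃ v, NFour (S : Subgroup G) z v (U.map (S : Subgroup G).subtype) := by
  haveI : Fact (Nat.Prime 2) := ⟨Nat.prime_two⟩
  haveI := hU
  have hz1 : z ≠ 1 := FourConn.ne_one_of_two hz2
  set V := U.map (S : Subgroup G).subtype with hVdef
  have hV : IsKleinFour V := klein_map (S : Subgroup G).subtype_injective hU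
  have hVS : V ≤ (S : Subgroup G) := map_subtype_le U
  have hconj : ∀ s ∈ (S : Subgroup G), ∀ x ∈ V, s * x * s⁻¹ ∈ V := by
    rintro s hs _ ⟨x, hx, rfl⟩
    exact ⟨_, hUn.conj_mem x hx ⟨s, hs⟩, rfl⟩
  have hU1 : U ≠ ⊥ := fun e => by
    have := IsKleinFour.card_four (G := U)
    rw [e, card_bot] at this
    omega
  obtain ⟨c, hcU, hcc, hc⟩ := Cfsg.Lib.PGroups.exists_mem_center_of_normal_ne_bot S.2 hU1
  have hcz : (c : G) = z := eq_z S hz hz2 c.2 (by rw [orderOf_coe, hc]) fun s hs =>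
    congrArg Subtype.val (mem_center_iff.1 hcc ⟨s, hs⟩)
  have hzV : z ∈ V := hcz ▸ mem_map_of_mem _ hcU
  obtain ⟨v, hvV, hv1, hvz⟩ : ∃ v ∈ V, v ≠ 1 ∧ v ≠ z := by
    by_contra hno
    push Not at hno
    have hsub : (V : Set G) ⊆ {1, z} := fun x hx => by
      by_cases hx1 : x = 1
      · exact Or.inl hx1
      · exact Or.inr (hno x hx hx1)
    have := Set.ncard_le_ncard hsub (by simp)
    rw [← Nat.card_coe_set_eq, Set.ncard_pair (Ne.symm hz1), SetLike.coe_sort_coe, card_klein hV] at this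
    omega
  haveI := hV
  have hel := klein_elems hV hzV hvV hz1 hv1 (Ne.symm hvz)
  have hcj : ∀ s ∈ (S : Subgroup G), s * v * s⁻¹ = v ∨ s * v * s⁻¹ = z * v := fun s hs => by
    rcases hel _ (hconj s hs v hvV) with e | e | e | e
    · exact absurd (conj_eq_one_iff.1 e) hv1
    · refine absurd ?_ hvz
      calc v = s⁻¹ * (s * v * s⁻¹ * s) := by group
        _ = s⁻¹ * (z * s) := by rw [e]
        _ = z := by rw [← z_comm S hz hz2 hs]; group
    · exact Or.inl e
    · exact Or.inr e
  refine ⟨v, hV, hVS, hzV, hvV, hv1, hvz, hel, hcj, relIndex_centralizer_two (fun x hx => z_comm S hz hz2 hx)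
    (mul_self_of_two hz2) hcj ?_, fun x hx => ⟨hVS hx, mem_centralizer_singleton_iff.2 (comm_of_klein x hx v hvV)⟩⟩
  by_contra hno
  push Not at hno
  exact hvz (eq_z S hz hz2 (hVS hvV) (Cfsg.Lib.InvolCalc.order_two_of_mul_self (sq_of_klein hvV) hv1) hno)

omit hz hz2 in
/-- the strongly embedded subgroup of `O²(G)` -/
theorem stronglyEmbedded_res {M : Subgroup G} (W : CritDep.Pointed M z) (hSM : (S : Subgroup G) ≤ M)
    (hzH : z ∈ Cfsg.pResidual 2 G)
    (hC : ∀ t ∈ Cfsg.pResidual 2 G, orderOf t = 2 → t ∈ M → centralizer ({t} : Set G) ≤ M) :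
    ∃ K : Subgroup ↥(Cfsg.pResidual 2 G), Cfsg.IsStronglyEmbedded K := by
  set H := Cfsg.pResidual 2 G
  refine ⟨M.subgroupOf H, fun e => ?_, ?_, fun g hg => ?_⟩
  · exact W.ne (eq_top_iff.2 (sup_res S ▸ sup_le (subgroupOf_eq_top.1 e) hSM))
  · have h1 : (⟨z, hzH⟩ : H) ∈ M.subgroupOf H := mem_subgroupOf.2 W.mem
    have h2 := Subgroup.orderOf_dvd_natCard _ h1
    rw [Subgroup.orderOf_mk, W.two] at h2
    exact even_iff_two_dvd.2 h2
  · rw [← Nat.not_even_iff_odd]
    intro hev
    obtain ⟨x, hx, hxo⟩ := Cfsg.Lib.StrongEmb.exists_involution_of_even hev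
    obtain ⟨y, hy, hye⟩ := hx.2
    have hxG : orderOf (x : G) = 2 := by rw [orderOf_coe, hxo]
    refine hg (mem_subgroupOf.2 (W.single hxG (hC x x.2 hxG (mem_subgroupOf.1 hx.1)) ?_))
    have e : (g : G) * (y : G) * (g : G)⁻¹ = x := congrArg Subtype.val hye
    rw [← e]
    simpa [mul_assoc] using mem_subgroupOf.1 hy

include h

/-- every involution of `O²(G)` is conjugate to `z` -/
theorem conj_z_of_rank_two (h2 : Cfsg.PRankLE 2 2 G) {y g : G}
    (hy : g * z * g⁻¹ = y) (hyS : y ∈ (S : Subgroup G)) (hne : y ≠ z)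
    {t : G} (ht : orderOf t = 2) (htH : t ∈ Cfsg.pResidual 2 G) : IsConj z t := by
  haveI : Fact (Nat.Prime 2) := ⟨Nat.prime_two⟩
  have hz1 : z ≠ 1 := FourConn.ne_one_of_two hz2
  have hzz := mul_self_of_two hz2
  have hy2 : orderOf y = 2 := by rw [← hy, orderOf_conj', hz2]
  obtain ⟨a, ha, htS⟩ := exists_res_conj S ht
  have ht' : orderOf (a * t * a⁻¹) = 2 := by rw [orderOf_conj', ht]
  have htH' : a * t * a⁻¹ ∈ Cfsg.pResidual 2 G := mul_mem (mul_mem ha htH) (inv_mem ha)
  have back : ∀ b : G, IsConj z (b * (a * t * a⁻¹) * b⁻¹) → IsConj z t := fun b hb =>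
    hb.trans (isConj_iff.2 ⟨(b * a)⁻¹, by group⟩)
  have of_thin : Thin (S : Subgroup G) z → IsConj z t := by
    rintro ⟨T, hTS, hT, hinv⟩
    obtain ⟨b, -, hb⟩ := conj_into h S hTS hT htS htH' ht'
    have hb2 : orderOf (b * (a * t * a⁻¹) * b⁻¹) = 2 := by rw [orderOf_conj', ht']
    rcases hinv _ hb (mul_self_of_two hb2) with e | e
    · rw [e, orderOf_one] at hb2; omega
    · exact back b (by rw [e])
  by_cases hN : ∃ U : Subgroup ↥(S : Subgroup G), U.Normal ∧ IsKleinFour U
  · obtain ⟨U, hUn, hU⟩ := hN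
    obtain ⟨v, F⟩ := nfour_of_normal S hz hz2 hUn hU
    set B := (S : Subgroup G) ⊓ centralizer ({v} : Set G)
    set V := U.map (S : Subgroup G).subtype
    haveI := F.klein
    by_cases hyB : y ∈ B
    · have hyV : y ∈ V := mem_four_of_rank_two h2 F.klein (mul_self_of_two hy2) fun w hw => by
        rcases F.elems w hw with e | e | e | e <;> rw [e]
        · simp
        · exact (z_comm S hz hz2 hyS).symm
        · exact (mem_centralizer_singleton_iff.1 hyB.2).symm
        · exact ((show Commute z y from (z_comm S hz hz2 hyS).symm).mul_left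
            (show Commute v y from (mem_centralizer_singleton_iff.1 hyB.2).symm)).eq
      have hzy : IsConj z y := isConj_iff.2 ⟨g, hy⟩
      have hvc : IsConj z v ∧ IsConj z (z * v) := by
        obtain ⟨s, hs, hsv⟩ : ∃ s ∈ (S : Subgroup G), s * v ≠ v * s := by
          by_contra hno
          push Not at hno
          exact F.v_ne (eq_z S hz hz2 (F.le F.v_mem)
            (Cfsg.Lib.InvolCalc.order_two_of_mul_self (sq_of_klein F.v_mem) F.v_ne_one) hno)
        have h1 : IsConj v (z * v) := isConj_iff.2 ⟨s, (F.conj s hs).resolve_left fun e =>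
          hsv (mul_inv_eq_iff_eq_mul.1 e)⟩
        rcases F.elems y hyV with e | e | e | e
        · rw [e, orderOf_one] at hy2; omega
        · exact absurd e hne
        · exact ⟨e ▸ hzy, (e ▸ hzy).trans h1⟩
        · exact ⟨(e ▸ hzy).trans h1.symm, e ▸ hzy⟩
      obtain ⟨b, -, hb⟩ := conj_into h S inf_le_left F.index htS htH' ht'
      have hb2 : orderOf (b * (a * t * a⁻¹) * b⁻¹) = 2 := by rw [orderOf_conj', ht']
      have hbV : b * (a * t * a⁻¹) * b⁻¹ ∈ V := mem_four_of_rank_two h2 F.klein (mul_self_of_two hb2) fun w hw => by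
        rcases F.elems w hw with e | e | e | e <;> rw [e]
        · simp
        · exact (z_comm S hz hz2 hb.1).symm
        · exact (mem_centralizer_singleton_iff.1 hb.2).symm
        · exact ((show Commute z _ from (z_comm S hz hz2 hb.1).symm).mul_left
            (show Commute v _ from (mem_centralizer_singleton_iff.1 hb.2).symm)).eq
      rcases F.elems _ hbV with e | e | e | e
      · rw [e, orderOf_one] at hb2; omega
      · exact back b (by rw [e])
      · exact back b (by rw [e]; exact hvc.1)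
      · exact back b (by rw [e]; exact hvc.2)
    · refine of_thin (thin_of_outside h S hz hz2 hy hyS hne F.index (F.mem_B F.z_mem) hyB fun x hxS hxx hxy => ?_)
      obtain ⟨W, hW, hzW, hyW, hle⟩ := exists_klein hzz (mul_self_of_two hy2) hz1 (FourConn.ne_one_of_two hy2)
        (Ne.symm hne) (z_comm S hz hz2 hyS).symm
      have hxW : x ∈ W := mem_four_of_rank_two h2 hW hxx fun w hw =>
        mem_centralizer_singleton_iff.1 (hle (centralizer ({x} : Set G))
          (mem_centralizer_singleton_iff.2 (z_comm S hz hz2 hxS).symm) (mem_centralizer_singleton_iff.2 hxy.symm) hw)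
      exact klein_elems hW hzW hyW hz1 (FourConn.ne_one_of_two hy2) (Ne.symm hne) x hxW
  · push Not at hN
    have hzS := z_mem S hz hz2
    obtain ⟨T, hT, hinv⟩ := Crit2.exists_index_two_one_involution S.2 hN (z := ⟨z, hzS⟩) (d := ⟨y, hyS⟩)
      (Subtype.ext hzz) (fun e => hz1 (congrArg Subtype.val e))
      (mem_center_iff.2 fun s => Subtype.ext (z_comm S hz hz2 s.2)) (Subtype.ext (mul_self_of_two hy2))
      (fun e => FourConn.ne_one_of_two hy2 (congrArg Subtype.val e)) (fun e => hne (congrArg Subtype.val e))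
    refine of_thin ⟨T.map (S : Subgroup G).subtype, map_subtype_le _, ?_, ?_⟩
    · rw [relIndex, subgroupOf, comap_map_eq_self_of_injective (S : Subgroup G).subtype_injective]; exact hT
    · rintro _ ⟨x, hx, rfl⟩ hxx
      rcases hinv x hx (Subtype.ext hxx) with e | e
      · exact Or.inl (by rw [e]; rfl)
      · exact Or.inr (by rw [e]; rfl)

/-- THE CASE OF RANK TWO -/
theorem rank_two (h2 : Cfsg.PRankLE 2 2 G) (hzH : z ∈ Cfsg.pResidual 2 G) {y g : G}
    (hy : g * z * g⁻¹ = y) (hyS : y ∈ (S : Subgroup G)) (hne : y ≠ z) :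
    (∃ K : Subgroup ↥(Cfsg.pResidual 2 G), Cfsg.IsStronglyEmbedded K) ∨
      Cfsg.IsCharacteristicTwoType ↥(Cfsg.pResidual 2 G) := by
  haveI : Fact (Nat.Prime 2) := ⟨Nat.prime_two⟩
  set D := Cfsg.centralizerPPrimeCore 2 z with hD
  have hDS : ∀ d ∈ D, ∀ s ∈ (S : Subgroup G), d * s = s * d := by
    intro d hd s hs
    have h1 : d * s * d⁻¹ ∈ (S : Subgroup G) := (mem_normalizer_iff.1
      (centralizer_z h S hz hz2 (centralizerPPrimeCore_le_centralizer z hd)) s).1 hs
    have h2' : s * d⁻¹ * s⁻¹ ∈ D := (mem_normalizer_iff.1 (centralizer_le_normalizer_centralizerPPrimeCore z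
      (mem_centralizer_singleton_iff.2 (z_comm S hz hz2 hs))) d⁻¹).1 (inv_mem hd)
    have h3 : d * s * d⁻¹ * s⁻¹ ∈ D ⊓ (S : Subgroup G) :=
      mem_inf.2 ⟨by rw [show d * s * d⁻¹ * s⁻¹ = d * (s * d⁻¹ * s⁻¹) by group]; exact mul_mem hd h2',
        mul_mem h1 (inv_mem hs)⟩
    have h4 : D ⊓ (S : Subgroup G) = ⊥ := by
      obtain ⟨k, hk⟩ := IsPGroup.iff_card.1 S.2
      exact disjoint_iff.1 (disjoint_of_coprime_natCard (by
        rw [hk]; exact (centralizerPPrimeCore_card_coprime z).pow_right k))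
    rw [h4, mem_bot] at h3
    calc d * s = d * s * d⁻¹ * s⁻¹ * (s * d) := by group
      _ = s * d := by rw [h3, one_mul]
  have hfix : ∀ k : G, k * z * k⁻¹ ∈ (S : Subgroup G) → k ∈ normalizer (D : Set G) := by
    intro k hk
    have hk2 : orderOf (k * z * k⁻¹) = 2 := by rw [orderOf_conj', hz2]
    have hle : D ≤ Cfsg.centralizerPPrimeCore 2 (k * z * k⁻¹) := fun d hd =>
      balance h hz2 hk2 (z_comm S hz hz2 hk).symm ⟨hd, mem_centralizer_singleton_iff.2 (hDS d hd _ hk)⟩
    have hmap : Cfsg.centralizerPPrimeCore 2 (k * z * k⁻¹) = D.map (MulAut.conj k).toMonoidHom :=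
      (centralizerPPrimeCore_map_equiv (MulAut.conj k) z).symm
    rw [hmap] at hle
    have he := eq_of_le_of_card_ge hle (card_map_of_injective (MulAut.conj k).injective).le
    refine Cfsg.Lib.Sft.mem_normalizer_of_conj fun d hd => ?_
    rw [he]
    exact ⟨d, hd, rfl⟩
  by_cases hDb : D = ⊥
  · refine Or.inr (charTwoType_of_cores_normal h.sol _ (even_res h S) fun t htH ht => ?_)
    obtain ⟨k, rfl⟩ := isConj_iff.1 (conj_z_of_rank_two h S hz hz2 h2 hy hyS hne ht htH)
    rw [show Cfsg.centralizerPPrimeCore 2 (k * z * k⁻¹) = D.map (MulAut.conj k).toMonoidHom from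
      (centralizerPPrimeCore_map_equiv (MulAut.conj k) z).symm, hDb, Subgroup.map_bot]
  left
  set M := normalizer (D : Set G) with hM
  have hCM : centralizer ({z} : Set G) ≤ M := centralizer_le_normalizer_centralizerPPrimeCore z
  have hSM : (S : Subgroup G) ≤ M := fun s hs => hCM (mem_centralizer_singleton_iff.2 (z_comm S hz hz2 hs))
  have hzS := z_mem S hz hz2
  have hself : ∀ k : G, k * z * k⁻¹ ∈ M → k ∈ M := by
    intro k hk
    obtain ⟨c, hc, hcS⟩ := Cfsg.Lib.TwoFusion.exists_sylow_conj S hSM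
      (X := zpowers (k * z * k⁻¹)) (isPGroup_zpowers_two (mul_self_of_two (by rw [orderOf_conj', hz2])))
      (zpowers_le.2 hk)
    have h1 := hfix (c * k) (by
      have := hcS _ (mem_zpowers _)
      rwa [show c * (k * z * k⁻¹) * c⁻¹ = c * k * z * (c * k)⁻¹ by group] at this)
    exact (mul_mem_cancel_left hc).1 h1
  have W : CritDep.Pointed M z := ⟨hz2, ⟨S, hzS, fun s hs => z_comm S hz hz2 hs⟩, hSM hzS, fun e => hDb ?_, hself⟩
  · refine stronglyEmbedded_res S W hSM hzH fun t htH ht htM => ?_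
    obtain ⟨k, rfl⟩ := isConj_iff.1 (conj_z_of_rank_two h S hz hz2 h2 hy hyS hne ht htH)
    have hkM := hself k htM
    intro c hc
    have h1 : k⁻¹ * c * k ∈ centralizer ({z} : Set G) := mem_centralizer_singleton_iff.2 (by
      have h3 := mem_centralizer_singleton_iff.1 hc
      calc k⁻¹ * c * k * z = k⁻¹ * (c * (k * z * k⁻¹)) * k := by group
        _ = z * (k⁻¹ * c * k) := by rw [h3]; group)
    have h3 := mul_mem (mul_mem hkM (hCM h1)) (inv_mem hkM)
    rwa [show k * (k⁻¹ * c * k) * k⁻¹ = c by group] at h3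
  · haveI : D.Normal := normalizer_eq_top_iff.1 e
    exact le_bot_iff.1 (h.odd ▸ Cfsg.Lib.Components.le_pPrimeCore (centralizerPPrimeCore_card_coprime z))

end Cfsg.Lib.SolvCentType
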