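/-
Four-subgroups contained in elementary abelian subgroups of order eight.
-/
import Cfsg.Agent.SolvCentType.RankTwo

set_option autoImplicit false
set_option linter.unusedSectionVars false
set_option linter.style.haveILetI false

namespace Cfsg.Lib.SolvCentType

open Subgroup Cfsg.Lib.Misc.FourConnected Cfsg.Lib.BenderSE Cfsg.Lib.BenderSE.FourConn

universe u

variable {G : Type u} [Group G] [Finite G]

/-- a four-subgroup inside an elementary abelian subgroup of order at least eight -/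
def Good (W : Subgroup G) : Prop :=
  IsKleinFour W ∧ ∃ A : Subgroup G, Cfsg.IsElementaryAbelian 2 A ∧ 8 ≤ Nat.card A ∧ W ≤ A

theorem comm_el {A : Subgroup G} (hA : Cfsg.IsElementaryAbelian 2 A) {x y : G} (hx : x ∈ A) (hy : y ∈ A) :
    x * y = y * x := by
  haveI := hA.1
  exact congrArg Subtype.val (mul_comm' (⟨x, hx⟩ : A) ⟨y, hy⟩)

theorem sq_el {A : Subgroup G} (hA : Cfsg.IsElementaryAbelian 2 A) {x : G} (hx : x ∈ A) : x * x = 1 := by
  rw [← pow_two]; exact hA.2 x hx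

theorem eight_of_lt {W A : Subgroup G} (hW : IsKleinFour W) (hA : Cfsg.IsElementaryAbelian 2 A) (h : W < A) :
    8 ≤ Nat.card A := by
  haveI : Fact (Nat.Prime 2) := ⟨Nat.prime_two⟩
  obtain ⟨j, hj⟩ := IsPGroup.iff_card.1 (isPGroup_elementary hA)
  have h4 : 4 < Nat.card A := by
    refine lt_of_le_of_ne (card_klein hW ▸ card_le_of_le h.le) fun e => h.ne ?_
    exact eq_of_le_of_card_ge h.le (by rw [card_klein hW, ← e])
  by_contra hlt
  have := Nat.pow_le_pow_right two_pos (show j ≤ 2 by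
    by_contra h'
    exact hlt ((show (8 : ℕ) = 2 ^ 3 by norm_num).le.trans (hj ▸ Nat.pow_le_pow_right two_pos (by omega))))
  omega

theorem elementary_zpowers {x : G} (hx : x * x = 1) : Cfsg.IsElementaryAbelian 2 (zpowers x) :=
  ⟨inferInstance, fun y hy => by
    obtain ⟨k, rfl⟩ := mem_zpowers_iff.1 hy
    rw [pow_two, ← (Commute.refl x).mul_zpow, hx, one_zpow]⟩

theorem elementary_add {W : Subgroup G} (hW : IsKleinFour W) {x : G} (hx : x * x = 1)
    (hc : ∀ a ∈ W, a * x = x * a) (hxW : x ∉ W) :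
    Cfsg.IsElementaryAbelian 2 (W ⊔ zpowers x) ∧ 8 ≤ Nat.card ↥(W ⊔ zpowers x) := by
  haveI : Fact (Nat.Prime 2) := ⟨Nat.prime_two⟩
  have hA := Cfsg.Lib.Sft.elementary_sup (p := 2) (elementary_of_klein hW) (elementary_zpowers hx)
    fun a ha b hb => by
      obtain ⟨k, rfl⟩ := mem_zpowers_iff.1 hb
      exact ((show Commute a x from hc a ha).zpow_right k).eq
  exact ⟨hA, eight_of_lt hW hA (lt_of_le_of_ne le_sup_left fun e =>
    hxW (e.symm ▸ mem_sup_right (mem_zpowers x)))⟩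

theorem good_add {W : Subgroup G} (hW : IsKleinFour W) {x : G} (hx : x * x = 1)
    (hc : ∀ a ∈ W, a * x = x * a) (hxW : x ∉ W) : Good W :=
  ⟨hW, _, (elementary_add hW hx hc hxW).1, (elementary_add hW hx hc hxW).2, le_sup_left⟩

theorem good_conj (g : G) {W : Subgroup G} (hW : Good W) : Good (FourConn.conjBy g W) := by
  obtain ⟨hW, A, hA, hA8, hWA⟩ := hW
  haveI := hA.1
  refine ⟨klein_conj g hW, FourConn.conjBy g A, ⟨⟨⟨?_⟩⟩, ?_⟩, by rwa [card_map_of_injective (MulAut.conj g).injective],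
    Subgroup.map_mono hWA⟩
  · rintro ⟨_, a, ha, rfl⟩ ⟨_, b, hb, rfl⟩
    refine Subtype.ext (show MulAut.conj g a * MulAut.conj g b = MulAut.conj g b * MulAut.conj g a from ?_)
    rw [← map_mul, ← map_mul, comm_el hA ha hb]
  · rintro _ ⟨a, ha, rfl⟩
    rw [← map_pow, hA.2 a ha, map_one]

/-- half of an elementary abelian group centralises an element with two images -/
theorem card_half {X : Subgroup G} {z v : G} (hzX : ∀ x ∈ X, x * z = z * x) (hz : z * z = 1)
    (hv : ∀ x ∈ X, x * v * x⁻¹ = v ∨ x * v * x⁻¹ = z * v) :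
    Nat.card X ≤ 2 * Nat.card ↥(X ⊓ centralizer ({v} : Set G)) := by
  by_cases hne : ∃ x ∈ X, x * v ≠ v * x
  · have h2 := relIndex_centralizer_two hzX hz hv hne
    have h3 := relIndex_mul_relIndex ⊥ (X ⊓ centralizer ({v} : Set G)) X bot_le inf_le_left
    rw [relIndex_bot_left, relIndex_bot_left, h2] at h3
    omega
  · push Not at hne
    have : X ⊓ centralizer ({v} : Set G) = X :=
      inf_eq_left.2 fun x hx => mem_centralizer_singleton_iff.2 (hne x hx)
    rw [this]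
    omega

/-- a normal subgroup meets the centre of a 2-group -/
theorem exists_central {Q U : Subgroup G} (hQ : IsPGroup 2 Q) (hUQ : U ≤ Q) (hU : IsKleinFour U)
    (hn : ∀ q ∈ Q, ∀ x ∈ U, q * x * q⁻¹ ∈ U) : ∃ c ∈ U, c ≠ 1 ∧ ∀ q ∈ Q, q * c = c * q := by
  haveI : Fact (Nat.Prime 2) := ⟨Nat.prime_two⟩
  haveI : (U.subgroupOf Q).Normal :=
    ⟨fun x hx q => mem_subgroupOf.2 (hn q q.2 x (mem_subgroupOf.1 hx))⟩
  have h1 : U.subgroupOf Q ≠ ⊥ := fun e => by
    have h2 := card_klein hU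
    rw [(subgroupOf_eq_bot.1 e).eq_bot_of_le hUQ, card_bot] at h2
    omega
  obtain ⟨c, hcU, hcc, hc⟩ := Cfsg.Lib.PGroups.exists_mem_center_of_normal_ne_bot hQ h1
  exact ⟨c, hcU, fun e => by rw [← orderOf_coe, e, orderOf_one] at hc; omega,
    fun q hq => congrArg Subtype.val (mem_center_iff.1 hcc ⟨q, hq⟩)⟩

theorem exists_other {W : Subgroup G} (hW : IsKleinFour W) {c : G} (hc : c ≠ 1) :
    ∃ w ∈ W, w ≠ 1 ∧ w ≠ c := by
  by_contra hno
  push Not at hno
  have hsub : (W : Set G) ⊆ {1, c} := fun x hx => by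
    by_cases hx1 : x = 1
    · exact Or.inl hx1
    · exact Or.inr (hno x hx hx1)
  have := Set.ncard_le_ncard hsub (by simp)
  rw [← Nat.card_coe_set_eq, Set.ncard_pair (Ne.symm hc), SetLike.coe_sort_coe, card_klein hW] at this
  omega

/-- conjugates of an element of a normal four group outside `⟨c⟩` -/
theorem conj_two {Q W : Subgroup G} (hW : IsKleinFour W) (hn : ∀ q ∈ Q, ∀ x ∈ W, q * x * q⁻¹ ∈ W) {c w : G}
    (hc : c ∈ W) (hc1 : c ≠ 1) (hcQ : ∀ q ∈ Q, q * c = c * q) (hw : w ∈ W) (hw1 : w ≠ 1) (hwc : w ≠ c) :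
    ∀ q ∈ Q, q * w * q⁻¹ = w ∨ q * w * q⁻¹ = c * w := by
  intro q hq
  rcases klein_elems hW hc hw hc1 hw1 (Ne.symm hwc) _ (hn q hq w hw) with e | e | e | e
  · exact absurd (conj_eq_one_iff.1 e) hw1
  · refine absurd ?_ hwc
    calc w = q⁻¹ * (q * w * q⁻¹ * q) := by group
      _ = q⁻¹ * (c * q) := by rw [e]
      _ = c := by rw [← hcQ q hq]; group
  · exact Or.inl e
  · exact Or.inr e

/-- a normal four-subgroup of a 2-group of rank three is good -/
theorem good_of_normal {Q W E : Subgroup G} (hQ : IsPGroup 2 Q) (hW : IsKleinFour W) (hWQ : W ≤ Q)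
    (hn : ∀ q ∈ Q, ∀ x ∈ W, q * x * q⁻¹ ∈ W) (hEQ : E ≤ Q) (hE : Cfsg.IsElementaryAbelian 2 E)
    (hE8 : 8 ≤ Nat.card E) : Good W := by
  haveI : Fact (Nat.Prime 2) := ⟨Nat.prime_two⟩
  haveI := hW
  obtain ⟨c, hcW, hc1, hcQ⟩ := exists_central hQ hWQ hW hn
  obtain ⟨w, hwW, hw1, hwc⟩ := exists_other hW hc1
  have hh := card_half (X := E) (fun x hx => hcQ x (hEQ hx)) (sq_of_klein hcW)
    (fun x hx => conj_two hW hn hcW hc1 hcQ hwW hw1 hwc x (hEQ hx))
  by_cases hsub : E ⊓ centralizer ({w} : Set G) ≤ W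
  · have he : E ⊓ centralizer ({w} : Set G) = W := eq_of_le_of_card_ge hsub (by rw [card_klein hW]; omega)
    exact ⟨hW, E, hE, hE8, he ▸ inf_le_left⟩
  · obtain ⟨x, hx, hxW⟩ := SetLike.not_le_iff_exists.1 hsub
    refine good_add hW (sq_el hE hx.1) (fun a ha => ?_) hxW
    have hxc : x * c = c * x := hcQ x (hEQ hx.1)
    have hxw : x * w = w * x := mem_centralizer_singleton_iff.1 hx.2
    rcases klein_elems hW hcW hwW hc1 hw1 (Ne.symm hwc) a ha with e | e | e | e <;> rw [e]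
    · simp
    · exact hxc.symm
    · exact hxw.symm
    · exact ((show Commute c x from hxc.symm).mul_left (show Commute w x from hxw.symm)).eq

/-- a 2-group with an elementary abelian subgroup of order eight has a normal four-subgroup -/
theorem exists_normal_four' {Q E : Subgroup G} (hQ : IsPGroup 2 Q) (hEQ : E ≤ Q)
    (hE : Cfsg.IsElementaryAbelian 2 E) (hE8 : 8 ≤ Nat.card E) :
    ∃ U : Subgroup G, IsKleinFour U ∧ U ≤ Q ∧ ∀ q ∈ Q, ∀ x ∈ U, q * x * q⁻¹ ∈ U := by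
  haveI : Fact (Nat.Prime 2) := ⟨Nat.prime_two⟩
  obtain ⟨j, hj⟩ := IsPGroup.iff_card.1 (isPGroup_elementary hE)
  have hj3 : 3 ≤ j := by
    by_contra hlt
    have := Nat.pow_le_pow_right two_pos (show j ≤ 2 by omega)
    omega
  have hd : 2 ^ 3 ∣ Nat.card ↥(E.subgroupOf Q) := by
    rw [Nat.card_congr (subgroupOfEquivOfLe hEQ).toEquiv, hj]; exact Nat.pow_dvd_pow 2 hj3
  obtain ⟨F, hF⟩ := Sylow.exists_subgroup_card_pow_prime 2 hd
  obtain ⟨U, hUn, hU⟩ := Cfsg.Lib.PGroups.exists_normal_four hQ (F.map (E.subgroupOf Q).subtype)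
    (by rw [card_map_of_injective (E.subgroupOf Q).subtype_injective, hF]; norm_num)
    (by rintro _ ⟨x, -, rfl⟩; exact Subtype.ext (sq_el hE (mem_subgroupOf.1 x.2)))
  refine ⟨U.map Q.subtype, klein_map Q.subtype_injective hU, map_subtype_le _, ?_⟩
  rintro q hq _ ⟨x, hx, rfl⟩
  exact ⟨_, hUn.conj_mem x hx ⟨q, hq⟩, rfl⟩

theorem exists_klein_le {A : Subgroup G} (hA : Cfsg.IsElementaryAbelian 2 A) {B : Subgroup G} (hBA : B ≤ A)
    (h : 2 < Nat.card B) : ∃ W : Subgroup G, IsKleinFour W ∧ W ≤ B :=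
  exists_klein_of_card (fun _ hx => sq_el hA (hBA hx)) (fun _ hx _ hy => comm_el hA (hBA hx) (hBA hy)) h

theorem adj_in {A U W : Subgroup G} (hA : Cfsg.IsElementaryAbelian 2 A) (hU : IsKleinFour U)
    (hW : IsKleinFour W) (hUA : U ≤ A) (hWA : W ≤ A) : Adj U W :=
  ⟨hU, hW, fun _ ha _ hb => comm_el hA (hUA ha) (hWA hb)⟩

theorem klein_commute {W : Subgroup G} {x : G} {a b : G} (ha : a * x = x * a) (hb : b * x = x * b)
    (hW : ∀ w ∈ W, w = 1 ∨ w = a ∨ w = b ∨ w = a * b) : ∀ w ∈ W, w * x = x * w := by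
  intro w hw
  rcases hW w hw with e | e | e | e <;> rw [e]
  · simp
  · exact ha
  · exact hb
  · exact ((show Commute a x from ha).mul_left (show Commute b x from hb)).eq

end Cfsg.Lib.SolvCentType
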