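/-
`|Ω₁(Z(S))| = 2` in 2-rank at least three: the component of the normal four group in the graph of good
four-subgroups gives trivial cores or a strongly embedded subgroup.
-/
import Cfsg.Agent.SolvCentType.Good

set_option autoImplicit false
set_option linter.unusedSectionVars false
set_option linter.style.haveILetI false

namespace Cfsg.Lib.SolvCentType

open Subgroup Cfsg.Lib.Misc.FourConnected Cfsg.Lib.BenderSE Cfsg.Lib.BenderSE.FourConn
open Cfsg.Lib.Components (centralizerPPrimeCore_le_centralizer centralizer_le_normalizer_centralizerPPrimeCore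
  centralizerPPrimeCore_card_coprime centralizerPPrimeCore_map_equiv)

universe u

variable {G : Type u} [Group G] [Finite G]

local notation "Chain" => Relation.ReflTransGen (Adj (G := G))

variable (h : Hyp G) (S : Sylow 2 G) {z : G} (hz : omegaZ (S : Subgroup G) = zpowers z) (hz2 : orderOf z = 2)
  {v : G} {V : Subgroup G} (F : NFour (S : Subgroup G) z v V)

include h hz hz2 F

/-- good four-subgroups of `S` are connected to the normal one -/
theorem good_chain {W : Subgroup G} (hW : Good W) (hWS : W ≤ (S : Subgroup G)) : Chain V W := by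
  haveI : Fact (Nat.Prime 2) := ⟨Nat.prime_two⟩
  obtain ⟨hWk, A, hA, hA8, hWA, hAS⟩ : IsKleinFour W ∧ ∃ A : Subgroup G, Cfsg.IsElementaryAbelian 2 A ∧
      8 ≤ Nat.card A ∧ W ≤ A ∧ A ≤ (S : Subgroup G) := by
    obtain ⟨hWk, A, hA, hA8, hWA⟩ := hW
    refine ⟨hWk, ?_⟩
    by_cases hzW : z ∈ W
    · exact ⟨A, hA, hA8, hWA, le_of_le_normalizer (isPGroup_elementary hA)
        (le_trans (show A ≤ centralizer ({z} : Set G) from fun a ha =>
          mem_centralizer_singleton_iff.2 (comm_el hA ha (hWA hzW))) (centralizer_z h S hz hz2))⟩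
    · obtain ⟨h1, h2⟩ := elementary_add hWk (mul_self_of_two hz2) (fun a ha => z_comm S hz hz2 (hWS ha)) hzW
      exact ⟨_, h1, h2, le_sup_left, sup_le hWS (zpowers_le.2 (z_mem S hz hz2))⟩
  have hh := card_half (X := A) (fun x hx => z_comm S hz hz2 (hAS hx)) (mul_self_of_two hz2)
    (fun x hx => F.conj x (hAS hx))
  obtain ⟨U, hU, hUle⟩ := exists_klein_le hA (B := A ⊓ centralizer ({v} : Set G)) inf_le_left (by omega)
  have hVU : Adj V U := by
    refine ⟨F.klein, hU, fun a ha b hb => ?_⟩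
    exact klein_commute (z_comm S hz hz2 (hAS (hUle hb).1)).symm
      (mem_centralizer_singleton_iff.1 (hUle hb).2).symm F.elems a ha
  exact (Relation.ReflTransGen.single hVU).tail (adj_in hA hU hWk (hUle.trans inf_le_left) hWA)

/-- good four-subgroups of one Sylow subgroup are connected -/
theorem same_sylow (T : Sylow 2 G) {U W : Subgroup G} (hU : Good U) (hW : Good W)
    (hUT : U ≤ (T : Subgroup G)) (hWT : W ≤ (T : Subgroup G)) : Chain U W := by
  haveI : Fact (Nat.Prime 2) := ⟨Nat.prime_two⟩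
  obtain ⟨g, rfl⟩ := MulAction.exists_smul_eq G S T
  have hdown : ∀ {X : Subgroup G}, X ≤ ((g • S : Sylow 2 G) : Subgroup G) →
      FourConn.conjBy g⁻¹ X ≤ (S : Subgroup G) := by
    rintro X hX _ ⟨x, hx, rfl⟩
    simpa using (conj_smul_coe g S).1 (hX hx)
  have h1 := chain_conj g ((chain_symm (good_chain h S hz hz2 F (good_conj g⁻¹ hU) (hdown hUT))).trans
    (good_chain h S hz hz2 F (good_conj g⁻¹ hW) (hdown hWT)))
  rwa [conjBy_mul, conjBy_mul, mul_inv_cancel, conjBy_one, conjBy_one] at h1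

/-- normalisers of 2-subgroups meeting the component lie in the stabiliser -/
theorem normalizer_le_stab {Q W : Subgroup G} (hQ : IsPGroup 2 Q) (hW : Good W) (hWQ : W ≤ Q)
    (hc : Chain V W) : normalizer (Q : Set G) ≤ componentStab V := by
  intro g hg
  obtain ⟨T, hQT⟩ := hQ.exists_le_sylow
  refine mem_componentStab hc (hc.trans (same_sylow h S hz hz2 F T hW (good_conj g hW) (hWQ.trans hQT) ?_))
  rintro _ ⟨x, hx, rfl⟩
  exact hQT ((mem_normalizer_iff.1 hg x).1 (hWQ hx))

variable {E : Subgroup G} (hES : E ≤ (S : Subgroup G)) (hE : Cfsg.IsElementaryAbelian 2 E) (hE8 : 8 ≤ Nat.card E)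

include hES hE hE8

theorem good_V : Good V :=
  good_of_normal S.2 F.klein F.le (fun s hs x hx => by
    rcases F.elems x hx with e | e | e | e <;> rw [e]
    · simp
    · rw [z_comm S hz hz2 hs, mul_inv_cancel_right]; exact F.z_mem
    · rcases F.conj s hs with e' | e' <;> rw [e']
      · exact F.v_mem
      · exact mul_mem F.z_mem F.v_mem
    · rw [show s * (z * v) * s⁻¹ = (s * z * s⁻¹) * (s * v * s⁻¹) by group, z_comm S hz hz2 hs, mul_inv_cancel_right]
      rcases F.conj s hs with e' | e' <;> rw [e']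
      · exact mul_mem F.z_mem F.v_mem
      · exact mul_mem F.z_mem (mul_mem F.z_mem F.v_mem)) hES hE hE8

theorem normS_le : normalizer ((S : Subgroup G) : Set G) ≤ componentStab V :=
  normalizer_le_stab h S hz hz2 F S.2 (good_V h S hz hz2 F hES hE hE8) F.le Relation.ReflTransGen.refl

theorem cz_le : centralizer ({z} : Set G) ≤ componentStab V :=
  (centralizer_z h S hz hz2).trans (normS_le h S hz hz2 F hES hE hE8)

theorem sylow_le_stab : (S : Subgroup G) ≤ componentStab V :=
  le_normalizer.trans (normS_le h S hz hz2 F hES hE hE8)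

/-- good four-subgroups of the stabiliser lie in the component -/
theorem chain_of_good_le {W : Subgroup G} (hW : Good W) (hWM : W ≤ componentStab V) : Chain V W := by
  obtain ⟨c, hc, hcS⟩ := Cfsg.Lib.TwoFusion.exists_sylow_conj S (sylow_le_stab h S hz hz2 F hES hE hE8)
    (isPGroup_elementary (elementary_of_klein hW.1)) hWM
  have h1 := chain_conj c⁻¹ (good_chain h S hz hz2 F (good_conj c hW) (by
    rintro _ ⟨x, hx, rfl⟩; exact hcS x hx))
  rw [conjBy_mul, inv_mul_cancel, conjBy_one] at h1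
  exact Relation.ReflTransGen.trans (inv_mem hc : c⁻¹ ∈ componentStab V) h1

/-- the centraliser of an involution of a good four-subgroup in the component -/
theorem centralizer_le_stab_of_good {W : Subgroup G} (hW : Good W) (hc : Chain V W) {t : G} (htW : t ∈ W)
    (ht : orderOf t = 2) : centralizer ({t} : Set G) ≤ componentStab V := by
  haveI : Fact (Nat.Prime 2) := ⟨Nat.prime_two⟩
  have hW' := hW
  obtain ⟨hWk, A, hA, hA8, hWA⟩ := hW'
  haveI := hWk
  haveI := hA.1
  set M := componentStab V with hM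
  set C := centralizer ({t} : Set G) with hCdef
  have hAC : A ≤ C := fun a ha => mem_centralizer_singleton_iff.2 (comm_el hA ha (hWA htW))
  obtain ⟨P, hP⟩ := ((isPGroup_elementary hA).comap_subtype (K := C)).exists_le_sylow
  set P' := (P : Subgroup C).map C.subtype with hP'
  have hP'p : IsPGroup 2 P' := P.2.map _
  have hP'C : P' ≤ C := map_subtype_le _
  have hAP : A ≤ P' := fun x hx => ⟨⟨x, hAC hx⟩, hP (show (⟨x, hAC hx⟩ : C) ∈ A.subgroupOf C from hx), rfl⟩
  have htC : ∀ y ∈ P', y * t = t * y := fun y hy => mem_centralizer_singleton_iff.1 (hP'C hy)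
  -- the core lies in the stabiliser
  have hOM : Cfsg.centralizerPPrimeCore 2 t ≤ M := by
    rw [Cfsg.Agent.S1324.result 2 A (Cfsg.centralizerPPrimeCore 2 t) hA ((by norm_num : 2 ^ 2 ≤ 8).trans hA8)
      (Nat.coprime_two_right.1 (centralizerPPrimeCore_card_coprime t)).not_two_dvd_nat
      (hAC.trans (centralizer_le_normalizer_centralizerPPrimeCore t))]
    refine iSup_le fun B => ?_
    have h2 : 2 < Nat.card (B : Subgroup G) := by
      have h1 := Subgroup.relIndex_mul_relIndex ⊥ (B : Subgroup G) A bot_le B.2.1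
      simp only [relIndex_bot_left] at h1
      have := Nat.mul_le_mul_left (Nat.card (B : Subgroup G)) B.2.2
      omega
    obtain ⟨U, hU, hUB⟩ := exists_klein_le hA B.2.1 h2
    exact (inf_le_right.trans (centralizer_le_normalizer _)).trans (normalizer_le_stab h S hz hz2 F
      ((isPGroup_elementary hA).to_le B.2.1) ⟨hU, A, hA, hA8, hUB.trans B.2.1⟩ hUB
      (hc.tail (adj_in hA hWk hU hWA (hUB.trans B.2.1))))
  have hPM : P' ≤ M := le_normalizer.trans (normalizer_le_stab h S hz hz2 F hP'p hW (hWA.trans hAP) hc)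
  -- a normal four group of `P'` containing `t`
  obtain ⟨X, hX, hXP, hXn, htX⟩ : ∃ X : Subgroup G, IsKleinFour X ∧ X ≤ P' ∧
      (∀ q ∈ P', ∀ x ∈ X, q * x * q⁻¹ ∈ X) ∧ t ∈ X := by
    obtain ⟨U, hU, hUP, hUn⟩ := exists_normal_four' hP'p hAP hA hA8
    by_cases htU : t ∈ U
    · exact ⟨U, hU, hUP, hUn, htU⟩
    obtain ⟨c, hcU, hc1, hcP⟩ := exists_central hP'p hUP hU hUn
    haveI := hU
    have htP : t ∈ P' := hAP (hWA htW)
    obtain ⟨X, hX, htX, -, hle⟩ := exists_klein (mul_self_of_two ht) (sq_of_klein hcU) (FourConn.ne_one_of_two ht) hc1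
      (fun e => htU (e ▸ hcU)) (hcP t htP)
    refine ⟨X, hX, hle _ htP (hUP hcU), fun q hq x hx => ?_, htX⟩
    have hxq : x ∈ centralizer ({q} : Set G) := hle _ (mem_centralizer_singleton_iff.2 (htC q hq).symm)
      (mem_centralizer_singleton_iff.2 (hcP q hq).symm) hx
    rwa [← mem_centralizer_singleton_iff.1 hxq, mul_inv_cancel_right]
  have hXg : Good X := good_of_normal hP'p hX hXP hXn hAP hA hA8
  obtain ⟨T, hT⟩ := hP'p.exists_le_sylow
  have hcX : Chain V X := hc.trans (same_sylow h S hz hz2 F T hW hXg ((hWA.trans hAP).trans hT) (hXP.trans hT))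
  have htop : M.subgroupOf C = ⊤ := by
    refine eq_top_of_constrained_core (pLayer_centralizer_of_nonComponent (nonComponent h) ht) P
      (A := A.subgroupOf C) ⟨⟨⟨fun x y => Subtype.ext (Subtype.ext (comm_el hA (mem_subgroupOf.1 x.2)
        (mem_subgroupOf.1 y.2)))⟩⟩, fun x hx => Subtype.ext (by rw [Subgroup.coe_pow]; exact hA.2 _ (mem_subgroupOf.1 hx))⟩
      (by rw [Nat.card_congr (subgroupOfEquivOfLe hAC).toEquiv]; exact hA8) ?_ ?_ ?_
    · exact fun x hx => mem_subgroupOf.2 (hOM ⟨x, hx, rfl⟩)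
    · exact fun x hx => mem_subgroupOf.2 (hPM ⟨x, hx, rfl⟩)
    rintro Q hQP - hcond g hg
    have hmem : ∀ x : G, x ∈ X → ∃ hx : x ∈ C, (⟨x, hx⟩ : C) ∈ (P : Subgroup C) := fun x hx => by
      obtain ⟨y, hy, rfl⟩ := hXP hx
      exact ⟨y.2, hy⟩
    have htcen : (⟨t, hAC (hWA htW)⟩ : C) ∈ center C :=
      mem_center_iff.2 fun y => Subtype.ext (mem_centralizer_singleton_iff.1 y.2)
    have hXQ : X ≤ Q.map C.subtype := fun x hx => by
      obtain ⟨hxC, hxP⟩ := hmem x hx
      refine ⟨⟨x, hxC⟩, hcond _ htcen (Subtype.ext (mul_self_of_two ht)) _ hxP fun y hy => ?_, rfl⟩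
      have hyP : (y : G) ∈ P' := mem_map_of_mem _ hy
      by_cases hx1 : x = 1
      · exact Or.inl (Subtype.ext (by show (y : G) * x * (y : G)⁻¹ = x; rw [hx1]; group))
      by_cases hxt : x = t
      · refine Or.inl (Subtype.ext ?_)
        show (y : G) * x * (y : G)⁻¹ = x
        rw [hxt, htC _ hyP, mul_inv_cancel_right]
      rcases conj_two hX hXn htX (FourConn.ne_one_of_two ht) htC hx hx1 hxt _ hyP with e | e
      · exact Or.inl (Subtype.ext e)
      · refine Or.inr (Subtype.ext ?_)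
        show (y : G) * x * (y : G)⁻¹ = x * t
        rw [e, mem_centralizer_singleton_iff.1 hxC]
    refine mem_subgroupOf.2 (normalizer_le_stab h S hz hz2 F ((P.2.to_le hQP).map C.subtype) hXg hXQ hcX ?_)
    exact le_normalizer_map C.subtype ⟨g, hg, rfl⟩
  exact subgroupOf_eq_top.1 htop

/-- every involution centralising `V` in `S` lies in a good four-subgroup of the component -/
theorem exists_good_at {b : G} (hb : b ∈ (S : Subgroup G) ⊓ centralizer ({v} : Set G)) (hb2 : orderOf b = 2) :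
    ∃ W : Subgroup G, Good W ∧ b ∈ W ∧ Chain V W := by
  have hgV := good_V h S hz hz2 F hES hE hE8
  by_cases hbV : b ∈ V
  · exact ⟨V, hgV, hbV, Relation.ReflTransGen.refl⟩
  have hcomm : ∀ a ∈ V, a * b = b * a :=
    klein_commute (z_comm S hz hz2 hb.1).symm (mem_centralizer_singleton_iff.1 hb.2).symm F.elems
  obtain ⟨hA, hA8⟩ := elementary_add F.klein (mul_self_of_two hb2) hcomm hbV
  obtain ⟨W, hW, hzW, hbW, hle⟩ := exists_klein (mul_self_of_two hz2) (mul_self_of_two hb2)
    (FourConn.ne_one_of_two hz2) (FourConn.ne_one_of_two hb2) (fun e => hbV (e ▸ F.z_mem)) (hcomm z F.z_mem)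
  have hg : Good W := ⟨hW, _, hA, hA8,
    hle _ (mem_sup_left F.z_mem) (mem_sup_right (mem_zpowers b))⟩
  exact ⟨W, hg, hbW, good_chain h S hz hz2 F hg (hle _ (z_mem S hz hz2) hb.1)⟩

/-- THE CASE OF RANK THREE -/
theorem rank_three (hzH : z ∈ Cfsg.pResidual 2 G) :
    (∃ K : Subgroup ↥(Cfsg.pResidual 2 G), Cfsg.IsStronglyEmbedded K) ∨
      Cfsg.IsCharacteristicTwoType ↥(Cfsg.pResidual 2 G) := by
  haveI : Fact (Nat.Prime 2) := ⟨Nat.prime_two⟩
  have hgV := good_V h S hz hz2 F hES hE hE8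
  set H := Cfsg.pResidual 2 G with hHdef
  set M := componentStab V with hM
  have hFT : ∀ Y : Subgroup G, Odd (Nat.card Y) → Group.IsSolvable ↥Y :=
    fun Y hY => Cfsg.Agent.PF.isSolvable_of_odd Y hY
  by_cases htop : M = ⊤
  · right
    have hbal : ∀ a b : G, orderOf a = 2 → orderOf b = 2 → a * b = b * a →
        Cfsg.centralizerPPrimeCore 2 a ⊓ centralizer {b} ≤ Cfsg.centralizerPPrimeCore 2 b :=
      fun a b ha hb hab => balance h ha hb hab
    set W₀ := Cfsg.Lib.Sft.closureOf (Cfsg.centralizerPPrimeCore 2) V with hW₀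
    have hall : ∀ U : Subgroup G, Chain V U → Cfsg.Lib.Sft.closureOf (Cfsg.centralizerPPrimeCore 2) U = W₀ := by
      intro U hch
      induction hch with
      | refl => rfl
      | tail _ hs ih => exact (closure_step hFT hbal hs).symm.trans ih
    obtain ⟨hVk, A, hA, hA8, hVA⟩ := hgV
    have hodd : Odd (Nat.card W₀) := by
      rw [hW₀, closure_eq hFT hbal hA hA8 hVA (card_klein hVk).ge]
      obtain ⟨X, hX, hle⟩ := Cfsg.Lib.Sft.exists_member hA hA8 (Cfsg.Lib.Sft.functor_of_equivariant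
        (θ := Cfsg.centralizerPPrimeCore 2) (fun a _ => functor_conditions hFT a)
        (fun a g _ => (centralizerPPrimeCore_map_equiv (MulAut.conj g) a).symm)
        (fun a b ha hb hab => hbal a b ha.1 hb.1 hab) hA hA8)
      refine Nat.not_even_iff_odd.mp fun he => hX.2.1 ((even_iff_two_dvd.mp he).trans ?_)
      exact card_dvd_of_le (iSup_le fun e => hle e.1 e.2.1 e.2.2)
    haveI hn : W₀.Normal := by
      refine ⟨fun x hx g => ?_⟩
      suffices hle : W₀.map (MulAut.conj g).toMonoidHom ≤ W₀ from hle ⟨x, hx, rfl⟩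
      conv_rhs => rw [← hall _ (show g ∈ M from htop ▸ mem_top g)]
      rw [hW₀, Cfsg.Lib.Sft.closureOf, Subgroup.map_iSup]
      refine iSup_le fun b => ?_
      rw [centralizerPPrimeCore_map_equiv (MulAut.conj g) b.1]
      exact le_iSup (fun e : {e : G // e ∈ V.map (MulAut.conj g).toMonoidHom ∧ e ≠ 1} =>
        Cfsg.centralizerPPrimeCore 2 e.1) ⟨MulAut.conj g b.1, ⟨b.1, b.2.1, rfl⟩,
          fun e => b.2.2 ((MulAut.conj g).injective (by rw [e, map_one]))⟩
    have hW0 : W₀ = ⊥ := le_bot_iff.1 (h.odd ▸ Cfsg.Lib.Components.le_pPrimeCore (Nat.coprime_two_right.2 hodd))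
    refine charTwoType_of_cores_normal h.sol _ (even_res h S) fun t htH ht => ?_
    obtain ⟨a, ha, hat⟩ := exists_res_conj S ht
    obtain ⟨b, -, hb⟩ := conj_into h S inf_le_left F.index hat (mul_mem (mul_mem ha htH) (inv_mem ha))
      (by rw [orderOf_conj', ht])
    set t' := b * (a * t * a⁻¹) * b⁻¹ with ht'def
    have ht' : orderOf t' = 2 := by rw [ht'def, orderOf_conj', orderOf_conj', ht]
    obtain ⟨U, -, hbU, hcU⟩ := exists_good_at h S hz hz2 F hES hE hE8 hb ht'
    have hcore : Cfsg.centralizerPPrimeCore 2 t' = ⊥ := le_bot_iff.1 (hW0 ▸ hall U hcU ▸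
      le_iSup (fun e : {e : G // e ∈ U ∧ e ≠ 1} => Cfsg.centralizerPPrimeCore 2 e.1) ⟨t', hbU, FourConn.ne_one_of_two ht'⟩)
    have e := centralizerPPrimeCore_map_equiv (p := 2) (MulAut.conj (b * a)) t
    rw [show MulAut.conj (b * a) t = t' by rw [ht'def, MulAut.conj_apply]; group, hcore] at e
    exact (map_eq_bot_iff_of_injective _ (MulAut.conj (b * a)).injective).1 e
  left
  have hSM := sylow_le_stab h S hz hz2 F hES hE hE8
  have hzS := z_mem S hz hz2
  have hself : ∀ k : G, k * z * k⁻¹ ∈ M → k ∈ M := by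
    intro k hk
    obtain ⟨c, hc, hcS⟩ := Cfsg.Lib.TwoFusion.exists_sylow_conj S hSM
      (X := zpowers (k * z * k⁻¹)) (isPGroup_zpowers_two (mul_self_of_two (by rw [orderOf_conj', hz2])))
      (zpowers_le.2 hk)
    refine (mul_mem_cancel_left hc).1 ?_
    set y := c * (k * z * k⁻¹) * c⁻¹ with hy
    have hyS : y ∈ (S : Subgroup G) := hcS _ (mem_zpowers _)
    have hyk : (c * k) * z * (c * k)⁻¹ = y := by rw [hy]; group
    by_cases hyz : y = z
    · refine cz_le h S hz hz2 F hES hE hE8 (mem_centralizer_singleton_iff.2 ?_)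
      exact mul_inv_eq_iff_eq_mul.1 (hyk.trans hyz)
    have hy2 : orderOf y = 2 := by rw [← hyk, orderOf_conj', hz2]
    have key : ∀ W : Subgroup G, Good W → Chain V W → y ∈ W → c * k ∈ M := by
      intro W hW hcW hyW
      have hCy := centralizer_le_stab_of_good h S hz hz2 F hES hE hE8 hW hcW hyW hy2
      refine mem_componentStab Relation.ReflTransGen.refl (chain_of_good_le h S hz hz2 F hES hE hE8
        (good_conj (c * k) hgV) ?_)
      rintro _ ⟨x, hx, rfl⟩
      refine hCy (mem_centralizer_singleton_iff.2 ?_)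
      rw [← hyk]
      show MulAut.conj (c * k) x * MulAut.conj (c * k) z = MulAut.conj (c * k) z * MulAut.conj (c * k) x
      rw [← map_mul, ← map_mul, z_comm S hz hz2 (F.le hx)]
    by_cases hyB : y ∈ (S : Subgroup G) ⊓ centralizer ({v} : Set G)
    · obtain ⟨W, hW, hyW, hcW⟩ := exists_good_at h S hz hz2 F hES hE hE8 hyB hy2
      exact key W hW hcW hyW
    by_contra hne
    refine not_thin hES hE hE8 (thin_of_outside h S hz hz2 hyk hyS hyz F.index (F.mem_B F.z_mem) hyB
      fun x hxS hxx hxy => ?_)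
    obtain ⟨W, hW, hzW, hyW, hle⟩ := exists_klein (mul_self_of_two hz2) (mul_self_of_two hy2)
      (FourConn.ne_one_of_two hz2) (FourConn.ne_one_of_two hy2) (Ne.symm hyz) (z_comm S hz hz2 hyS).symm
    have hel := klein_elems hW hzW hyW (FourConn.ne_one_of_two hz2) (FourConn.ne_one_of_two hy2) (Ne.symm hyz)
    by_contra hout
    have hxW : x ∉ W := fun hm => hout (hel x hm)
    have hg : Good W := good_add hW hxx (klein_commute (z_comm S hz hz2 hxS).symm hxy.symm hel) hxW
    exact hne (key W hg (good_chain h S hz hz2 F hg (hle _ hzS hyS)) hyW)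
  have W : CritDep.Pointed M z := ⟨hz2, ⟨S, hzS, fun s hs => z_comm S hz hz2 hs⟩, hSM hzS, htop, hself⟩
  refine stronglyEmbedded_res S W hSM hzH fun t htH ht htM => ?_
  obtain ⟨c, hc, hcS⟩ := Cfsg.Lib.TwoFusion.exists_sylow_conj S hSM
    (X := zpowers t) (isPGroup_zpowers_two (mul_self_of_two ht)) (zpowers_le.2 htM)
  have htS := hcS t (mem_zpowers t)
  obtain ⟨a, -, hat⟩ := conj_into h S inf_le_left F.index htS
    ((inferInstance : H.Normal).conj_mem t htH c) (by rw [orderOf_conj', ht])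
  set b := a * (c * t * c⁻¹) * a⁻¹ with hb
  have hb2 : orderOf b = 2 := by rw [hb, orderOf_conj', orderOf_conj', ht]
  obtain ⟨U, hU, hbU, hcU⟩ := exists_good_at h S hz hz2 F hES hE hE8 hat hb2
  have hCb := centralizer_le_stab_of_good h S hz hz2 F hES hE hE8 hU hcU hbU hb2
  have haM : a ∈ M := W.single hb2 hCb (by
    rw [hb, show a⁻¹ * (a * (c * t * c⁻¹) * a⁻¹) * a = c * t * c⁻¹ by group]; exact hSM htS)
  intro x hx
  have hac : a * c ∈ M := mul_mem haM hc
  have h1 : a * c * x * (a * c)⁻¹ ∈ M := hCb (mem_centralizer_singleton_iff.2 (by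
    have h2 := mem_centralizer_singleton_iff.1 hx
    rw [hb]
    calc a * c * x * (a * c)⁻¹ * (a * (c * t * c⁻¹) * a⁻¹) = a * c * (x * t) * (a * c)⁻¹ := by group
      _ = a * (c * t * c⁻¹) * a⁻¹ * (a * c * x * (a * c)⁻¹) := by rw [h2]; group))
  have h3 := mul_mem (mul_mem (inv_mem hac) h1) hac
  rwa [show (a * c)⁻¹ * (a * c * x * (a * c)⁻¹) * (a * c) = x by group] at h3

end Cfsg.Lib.SolvCentType
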