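/-
The reduction to characteristic 2 type for groups with solvable involution centralisers and
`C(Ω₁(Z(S))) ≤ N(S)`.
-/
import Cfsg.Agent.SolvCentType.Component
import Cfsg.Agent.BenderSE.Final

set_option autoImplicit false
set_option linter.unusedSectionVars false
set_option linter.style.haveILetI false

namespace Cfsg.Lib.SolvCentType

open Subgroup Cfsg.Lib.Misc.FourConnected Cfsg.Lib.BenderSE Cfsg.Lib.BenderSE.FourConn

universe u

variable {G : Type u} [Group G] [Finite G]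

/-- a Sylow subgroup whose centre contains a four group is four-connected -/
theorem connected_of_central_four (S : Subgroup G) {W : Subgroup G} (hW : IsKleinFour W) (hWS : W ≤ S)
    (hc : ∀ w ∈ W, ∀ s ∈ S, s * w = w * s) : Cfsg.IsFourConnected S := by
  intro U U' hU hU'
  have hW' : IsKleinFour (W.subgroupOf S) := klein_subgroupOf hW hWS
  have h1 : ∀ a : S, ∀ b ∈ W.subgroupOf S, a * b = b * a := fun a b hb =>
    Subtype.ext (hc b (mem_subgroupOf.1 hb) a a.2)
  refine (Relation.ReflTransGen.single (b := W.subgroupOf S) ⟨hU, hW', ?_⟩).tail ⟨hW', hU', ?_⟩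
  · exact fun a ha b _ => (h1 b a ha).symm
  · exact fun a _ b hb => h1 a b hb

theorem res_sup_omega_normal (S : Sylow 2 G) :
    (Cfsg.pResidual 2 G ⊔ omegaZ (S : Subgroup G)).Normal := by
  set H := Cfsg.pResidual 2 G with hH
  set K := H ⊔ omegaZ (S : Subgroup G)
  rw [← normalizer_eq_top_iff, eq_top_iff, ← sup_res S]
  refine sup_le ((le_sup_left : H ≤ K).trans le_normalizer) fun s hs => ?_
  refine Cfsg.Lib.Sft.mem_normalizer_of_conj fun x hx => ?_
  obtain ⟨k, hk, w, hw, rfl⟩ := mem_sup_of_normal_left.1 hx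
  rw [show s * (k * w) * s⁻¹ = s * k * s⁻¹ * (s * w * s⁻¹) by group,
    (mem_omegaZ.1 hw).2.2 s hs, mul_inv_cancel_right]
  exact mul_mem_sup ((inferInstance : H.Normal).conj_mem k hk s) hw

variable (h : Hyp G) (S : Sylow 2 G)

include h

/-- THE REDUCTION -/
theorem reduction :
    (∃ M : Subgroup ↥(Cfsg.pResidual 2 G), Cfsg.IsStronglyEmbedded M) ∨
    (Nat.card ↥(omegaZ (S : Subgroup G) ⊓ Cfsg.pResidual 2 G) = 2 ∧ ∀ k ∈ Cfsg.pResidual 2 G,
      ∀ z ∈ omegaZ (S : Subgroup G) ⊓ Cfsg.pResidual 2 G, k * z * k⁻¹ ∈ (S : Subgroup G) →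
        k * z * k⁻¹ ∈ omegaZ (S : Subgroup G)) ∨
    (Nat.card ↥(omegaZ (S : Subgroup G)) = 4 ∧
      Cfsg.omegaOne 2 ((S : Subgroup G) ⊓ Cfsg.pResidual 2 G) = omegaZ (S : Subgroup G)) ∨
    Cfsg.IsCharacteristicTwoType ↥(Cfsg.pResidual 2 G ⊔ omegaZ (S : Subgroup G)) := by
  haveI : Fact (Nat.Prime 2) := ⟨Nat.prime_two⟩
  set Z := omegaZ (S : Subgroup G) with hZdef
  set H := Cfsg.pResidual 2 G with hHdef
  obtain ⟨z, hz, hz2⟩ := exists_central_res h S
  have hZel : Cfsg.IsElementaryAbelian 2 Z := ⟨⟨⟨fun a b => Subtype.ext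
    ((mem_omegaZ.1 b.2).2.2 a (mem_omegaZ.1 a.2).1)⟩⟩, fun x hx => by rw [pow_two]; exact (mem_omegaZ.1 hx).2.1⟩
  have hzle : zpowers z ≤ Z := zpowers_le.2 hz.1
  obtain ⟨j, hj⟩ := IsPGroup.iff_card.1 (isPGroup_elementary hZel)
  haveI := res_sup_omega_normal S
  by_cases hbig : 4 ≤ Nat.card Z
  · obtain ⟨W, hW, hWZ⟩ := exists_klein_le hZel le_rfl (show 2 < Nat.card Z by omega)
    by_cases h2 : Cfsg.PRankLE 2 2 G
    · -- rank two
      have h4 : Nat.card Z = 4 := le_antisymm ((h2 Z hZel.1 hZel.2).trans (by norm_num)) hbig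
      have hinv : ∀ x ∈ (S : Subgroup G), x * x = 1 → x ∈ Z := fun x hxS hxx =>
        hWZ (mem_four_of_rank_two h2 hW hxx fun a ha => ((mem_omegaZ.1 (hWZ ha)).2.2 x hxS).symm)
      have hle : Cfsg.omegaOne 2 ((S : Subgroup G) ⊓ H) ≤ Z :=
        (closure_le _).2 fun x hx => hinv x hx.1.1 (by rw [← pow_two]; exact hx.2)
      by_cases hZH : Z ≤ H
      · refine Or.inr (Or.inr (Or.inl ⟨h4, le_antisymm hle fun x hx => ?_⟩))
        exact subset_closure ⟨⟨(mem_omegaZ.1 hx).1, hZH hx⟩, hZel.2 x hx⟩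
      refine Or.inr (Or.inl ⟨?_, fun k _ x hx hkx => hinv _ hkx ?_⟩)
      · obtain ⟨i, hi⟩ := IsPGroup.iff_card.1 ((isPGroup_elementary hZel).to_le (inf_le_left : Z ⊓ H ≤ Z))
        have hlt : Nat.card ↥(Z ⊓ H) < 4 := lt_of_le_of_ne (h4 ▸ card_le_of_le inf_le_left) fun e => hZH (by
          rw [← eq_of_le_of_card_ge (inf_le_left : Z ⊓ H ≤ Z) (by rw [e, h4])]; exact inf_le_right)
        have hge : 1 < Nat.card ↥(Z ⊓ H) := by
          have h1 := card_le_of_le (zpowers_le.2 hz : zpowers z ≤ Z ⊓ H)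
          rw [Nat.card_zpowers, hz2] at h1
          omega
        rw [hi] at hlt hge ⊢
        obtain rfl : i = 1 := le_antisymm (Nat.lt_succ_iff.1 ((Nat.pow_lt_pow_iff_right one_lt_two).1 (hlt.trans_eq (by norm_num : 4 = 2 ^ 2))))
          (Nat.one_le_iff_ne_zero.2 fun e => by rw [e, pow_zero] at hge; omega)
        norm_num
      · rw [show k * x * k⁻¹ * (k * x * k⁻¹) = k * (x * x) * k⁻¹ by group, (mem_omegaZ.1 hx.1).2.1, mul_one,
          mul_inv_cancel]
    · -- four-connected Sylow subgroup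
      refine Or.inr (Or.inr (Or.inr (charTwoType_normal ?_ _ ?_)))
      · exact noncomponent_charTwo_of_reg Cfsg.Lib.BenderSE.regProp h2 h.odd (nonComponent h) S
          (connected_of_central_four _ hW (fun x hx => (mem_omegaZ.1 (hWZ hx)).1)
            fun w hw s hs => (mem_omegaZ.1 (hWZ hw)).2.2 s hs)
      · exact even_iff_two_dvd.2 ((even_iff_two_dvd.1 (even_res h S)).trans (card_dvd_of_le le_sup_left))
  -- the centre has one involution
  have hZeq : Z = zpowers z := by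
    refine (eq_of_le_of_card_ge hzle ?_).symm
    rw [Nat.card_zpowers, hz2, hj]
    rw [hj] at hbig
    have : j ≤ 1 := by
      by_contra hlt
      exact hbig ((show (4 : ℕ) = 2 ^ 2 by norm_num).le.trans (Nat.pow_le_pow_right two_pos (by omega)))
    exact (Nat.pow_le_pow_right two_pos this).trans (by norm_num)
  have hZH : Z ≤ H := by rw [hZeq]; exact zpowers_le.2 hz.2
  by_cases hwc : ∀ k ∈ H, k * z * k⁻¹ ∈ (S : Subgroup G) → k * z * k⁻¹ = z
  · refine Or.inr (Or.inl ⟨by rw [inf_eq_left.2 hZH, hZeq, Nat.card_zpowers, hz2], fun k hk x hx hkx => ?_⟩)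
    have hx' : x ∈ zpowers z := hZeq ▸ hx.1
    obtain ⟨i, hi⟩ := mem_zpowers_iff.1 hx'
    rw [← zpow_mod_orderOf, hz2] at hi
    rcases Int.emod_two_eq_zero_or_one i with e | e <;> rw [Nat.cast_ofNat, e] at hi
    · rw [← hi, zpow_zero, mul_one, mul_inv_cancel]; exact one_mem _
    · rw [zpow_one] at hi
      rw [← hi] at hkx ⊢
      rw [hwc k hk hkx]
      exact hz.1
  push Not at hwc
  obtain ⟨k, hk, hkS, hne⟩ := hwc
  rw [sup_eq_left.2 hZH]
  by_cases h2 : Cfsg.PRankLE 2 2 G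
  · exact (rank_two h S hZeq hz2 h2 hz.2 rfl hkS hne).imp id fun hc => Or.inr (Or.inr hc)
  obtain ⟨E, hES, hE, hE8⟩ := FourConn.exists_eight S h2
  obtain ⟨U, hU, hUS, hUn⟩ := exists_normal_four' S.2 hES hE hE8
  have hUn' : (U.subgroupOf (S : Subgroup G)).Normal :=
    ⟨fun x hx s => mem_subgroupOf.2 (hUn s s.2 x (mem_subgroupOf.1 hx))⟩
  obtain ⟨v, F⟩ := nfour_of_normal S hZeq hz2 hUn' (klein_subgroupOf hU hUS)
  exact (rank_three h S hZeq hz2 F hES hE hE8 hz.2).imp id fun hc => Or.inr (Or.inr hc)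

end Cfsg.Lib.SolvCentType
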