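/-
Solvable 2-locals: strongly embedded, or two subgroups `S₄` and dihedral or quasi-dihedral Sylow subgroups.
-/
import Cfsg.Agent.SolvCentType.Main
import Cfsg.Agent.SolvCentType.FourNormalizer
import Cfsg.Agent.JComp.OddTrace

set_option autoImplicit false
set_option linter.unusedSectionVars false
set_option linter.style.haveILetI false

namespace Cfsg.Lib.SolvCentType

open Subgroup

universe u

variable {G : Type u} [Group G] [Finite G]

theorem centralizer_twoLocal {t : G} (ht : orderOf t = 2) :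
    ∃ N : Subgroup G, Cfsg.IsTwoLocal N ∧ centralizer ({t} : Set G) ≤ N := by
  haveI : Fact (Nat.Prime 2) := ⟨Nat.prime_two⟩
  refine ⟨_, ⟨zpowers t, IsPGroup.of_card (n := 1) (by rw [pow_one, Nat.card_zpowers, ht]), fun e => ?_, rfl⟩,
    fun g hg => centralizer_le_normalizer _ (mem_centralizer_iff.2 fun y hy => ?_)⟩
  · rw [zpowers_eq_bot] at e
    rw [e, orderOf_one] at ht
    omega
  · obtain ⟨k, rfl⟩ := mem_zpowers_iff.1 hy
    exact ((Commute.symm (mem_centralizer_singleton_iff.1 hg : Commute g t)).zpow_left k).eq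

theorem solvable_of_le {A B : Subgroup G} (h : A ≤ B) (hB : Group.IsSolvable B) : Group.IsSolvable A := by
  haveI := hB
  exact Group.isSolvable_of_isSolvable_injective (f := inclusion h) (inclusion_injective h)

theorem hyp_of_locals (heven : Even (Nat.card G)) (hN : ∀ L : Subgroup G, Cfsg.IsTwoLocal L → Group.IsSolvable L)
    (hZ : ∀ S : Sylow 2 G, centralizer (omegaZ (S : Subgroup G) : Set G) ≤ normalizer ((S : Subgroup G) : Set G))
    (hO' : Cfsg.pPrimeCore 2 G = ⊥) (hO : Cfsg.pCore 2 G = ⊥) : Hyp G :=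
  ⟨heven, fun _ ht => by
    obtain ⟨N, hN', hle⟩ := centralizer_twoLocal ht
    exact solvable_of_le hle (hN N hN'), hZ, hO', hO⟩

theorem omegaZ_conj (g : G) (S : Sylow 2 G) {x : G} (hx : x ∈ omegaZ ((g • S : Sylow 2 G) : Subgroup G)) :
    g⁻¹ * x * g ∈ omegaZ (S : Subgroup G) := by
  obtain ⟨h1, h2, h3⟩ := mem_omegaZ.1 hx
  refine mem_omegaZ.2 ⟨(conj_smul_coe g S).1 h1, ?_, fun s hs => ?_⟩
  · rw [show g⁻¹ * x * g * (g⁻¹ * x * g) = g⁻¹ * (x * x) * g by group, h2, mul_one, inv_mul_cancel]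
  · have h4 := h3 (g * s * g⁻¹) ((conj_smul_coe g S).2 (by
      rw [show g⁻¹ * (g * s * g⁻¹) * g = s by group]; exact hs))
    calc s * (g⁻¹ * x * g) = g⁻¹ * (g * s * g⁻¹ * x) * g := by group
      _ = g⁻¹ * x * g * s := by rw [h4]; group

variable (hN : ∀ L : Subgroup G, Cfsg.IsTwoLocal L → Group.IsSolvable L) (h : Hyp G) (S : Sylow 2 G)

include h

theorem pCore_normal_bot (K : Subgroup G) [K.Normal] : Cfsg.pCore 2 K = ⊥ := by
  haveI : Fact (Nat.Prime 2) := ⟨Nat.prime_two⟩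
  have hle : (Cfsg.pCore 2 K).map K.subtype ≤ Cfsg.pCore 2 G := by
    haveI : ((Cfsg.pCore 2 K).map K.subtype).Normal := inferInstance
    exact Cfsg.Lib.Components.le_pCore ((Cfsg.Lib.Components.isPGroup_pCore 2).map _)
  rw [h.core, le_bot_iff, map_eq_bot_iff_of_injective _ K.subtype_injective] at hle
  exact hle

/-- the Sylow subgroups of a normal subgroup above `Ω₁(Z(S))` inherit the centraliser condition -/
theorem cz_normal (K : Subgroup G) [K.Normal] (hK : omegaZ (S : Subgroup G) ≤ K) (P : Sylow 2 K) :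
    centralizer (Cfsg.omegaCenterOf (P : Subgroup K) : Set K) ≤ normalizer ((P : Subgroup K) : Set K) := by
  haveI : Fact (Nat.Prime 2) := ⟨Nat.prime_two⟩
  obtain ⟨T, hT⟩ := (P.2.map K.subtype).exists_le_sylow
  have hPT : (T : Subgroup G).subgroupOf K = (P : Subgroup K) :=
    P.3 T.2.comap_subtype fun x hx => mem_subgroupOf.2 (hT (mem_map_of_mem _ hx))
  obtain ⟨g, hg⟩ := MulAction.exists_smul_eq G S T
  intro x hx
  have hxT : (x : G) ∈ normalizer ((T : Subgroup G) : Set G) := by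
    refine h.cz T (mem_centralizer_iff.2 fun w hw => ?_)
    obtain ⟨h1, h2, h3⟩ := mem_omegaZ.1 hw
    have hwK : w ∈ K := by
      have h4 := hK (omegaZ_conj g S (hg.symm ▸ hw))
      have h5 := (inferInstance : K.Normal).conj_mem _ h4 g
      rwa [show g * (g⁻¹ * w * g) * g⁻¹ = w by group] at h5
    have hwP : (⟨w, hwK⟩ : K) ∈ Cfsg.omegaCenterOf (P : Subgroup K) :=
      Cfsg.Lib.JComp.mem_omegaCenterOf.2 ⟨hPT ▸ mem_subgroupOf.2 h1,
        fun y hy => Subtype.ext (h3 y (mem_subgroupOf.1 (hPT.symm ▸ hy))), Subtype.ext h2⟩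
    exact congrArg Subtype.val (mem_centralizer_iff.1 hx _ hwP)
  refine mem_normalizer_iff.2 fun y => ?_
  rw [← hPT]
  exact (mem_normalizer_iff.1 hxT (y : G))

omit h in
/-- a strongly embedded subgroup of an overgroup of `O²(G)` gives one of `O²(G)` -/
theorem embedded_res {K : Subgroup G} (hK : Cfsg.pResidual 2 G ≤ K) (heven : Even (Nat.card ↥(Cfsg.pResidual 2 G)))
    {M : Subgroup K} (hM : Cfsg.IsStronglyEmbedded M) :
    ∃ M' : Subgroup ↥(Cfsg.pResidual 2 G), Cfsg.IsStronglyEmbedded M' := by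
  set H := Cfsg.pResidual 2 G with hH
  obtain ⟨t, htH, ht⟩ := Cfsg.Lib.StrongEmb.exists_involution_of_even heven
  obtain ⟨i, hiM, hi⟩ := Cfsg.Lib.StrongEmb.exists_involution_of_even hM.2.1
  obtain ⟨k, hk⟩ := isConj_iff.1 (Cfsg.Lib.StrongEmb.all_conj hM (a := (⟨t, hK htH⟩ : K)) (b := i)
    (by rw [Subgroup.orderOf_mk, ht]) hi)
  have hiH : (i : G) ∈ H := by
    rw [← hk]
    exact (inferInstance : H.Normal).conj_mem t htH k
  refine ⟨_, Cfsg.Lib.BenderSE.CritDep.embedded_comap (inclusion hK) (inclusion_injective hK) hM (fun e => ?_)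
    (t := (⟨i, hiH⟩ : H)) (by rw [Subgroup.orderOf_mk, orderOf_coe, hi]) hiM⟩
  refine hM.1 (eq_top_iff.2 fun g _ => Cfsg.Lib.StrongEmb.mem_of_involution hM hi hiM ?_)
  have hmem : (g : G)⁻¹ * i * g ∈ H := by
    have := (inferInstance : H.Normal).conj_mem _ hiH (g : G)⁻¹
    rwa [inv_inv] at this
  exact mem_comap.1 ((eq_top_iff.1 e) (mem_top (⟨_, hmem⟩ : H)))

include hN

/-- THE STRUCTURE THEOREM -/
theorem structure_cases :
    (∃ M : Subgroup ↥(Cfsg.pResidual 2 G), Cfsg.IsStronglyEmbedded M) ∨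
    ((∃ n : ℕ, 2 ≤ n ∧ Nonempty (↥((S : Subgroup G) ⊓ Cfsg.pResidual 2 G) ≃* DihedralGroup n)) ∨
      Cfsg.IsQuasiDihedral ↥((S : Subgroup G) ⊓ Cfsg.pResidual 2 G)) ∨
    (Nat.card ↥(omegaZ (S : Subgroup G) ⊓ Cfsg.pResidual 2 G) = 2 ∧ ∀ k ∈ Cfsg.pResidual 2 G,
      ∀ z ∈ omegaZ (S : Subgroup G) ⊓ Cfsg.pResidual 2 G, k * z * k⁻¹ ∈ (S : Subgroup G) →
        k * z * k⁻¹ ∈ omegaZ (S : Subgroup G)) ∨
    (Nat.card ↥(omegaZ (S : Subgroup G)) = 4 ∧
      Cfsg.omegaOne 2 ((S : Subgroup G) ⊓ Cfsg.pResidual 2 G) = omegaZ (S : Subgroup G)) := by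
  haveI : Fact (Nat.Prime 2) := ⟨Nat.prime_two⟩
  rcases reduction h S with h1 | h1 | h1 | h1
  · exact Or.inl h1
  · exact Or.inr (Or.inr (Or.inl h1))
  · exact Or.inr (Or.inr (Or.inr h1))
  set H := Cfsg.pResidual 2 G with hH
  set K := H ⊔ omegaZ (S : Subgroup G) with hK
  haveI := res_sup_omega_normal S
  have hNK : ∀ N : Subgroup K, Cfsg.IsTwoLocal N → Group.IsSolvable ↥N := by
    intro N hN'
    obtain ⟨T, hT, hT1, rfl⟩ := hN'
    have hT1' : T.map K.subtype ≠ ⊥ := fun e => hT1 ((map_eq_bot_iff_of_injective _ K.subtype_injective).1 e)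
    haveI := hN _ ⟨T.map K.subtype, hT.map _, hT1', rfl⟩
    have hle : (normalizer (T : Set K)).map K.subtype ≤ normalizer ((T.map K.subtype : Subgroup G) : Set G) :=
      le_normalizer_map K.subtype
    exact Group.isSolvable_of_isSolvable_injective
      (f := ((inclusion hle).comp
        ((normalizer (T : Set K)).equivMapOfInjective _ K.subtype_injective).toMonoidHom))
      ((inclusion_injective hle).comp (MulEquiv.injective _))
  rcases Cfsg.Lib.JComp.stronglyEmbedded_or_sfour h1 (pCore_normal_bot h K) hNK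
    (cz_normal h S K le_sup_right) with ⟨M, hM⟩ | ⟨M₁, -, -, hM₁, -, ⟨e₁⟩, -, -⟩
  · exact Or.inl (embedded_res le_sup_left (even_res h S) hM)
  · refine Or.inr (Or.inl ?_)
    have hmap : (Cfsg.Lib.JComp.oddClosure K).map K.subtype = H := by
      rw [Cfsg.Lib.JComp.oddClosure, MonoidHom.map_closure, hH, Cfsg.pResidual]
      congr 1
      ext x
      constructor
      · rintro ⟨y, hy, rfl⟩
        show (orderOf (y : G)).Coprime 2
        rw [orderOf_coe]
        exact Nat.coprime_two_right.2 hy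
      · intro hx
        have hxK : x ∈ K := (le_sup_left : H ≤ K) (Cfsg.Lib.Transfer.mem_pResidual_of_coprime hx)
        exact ⟨⟨x, hxK⟩, show Odd (orderOf (⟨x, hxK⟩ : K)) by
          rw [Subgroup.orderOf_mk]; exact Nat.coprime_two_right.1 hx, rfl⟩
    let f : Cfsg.Lib.JComp.oddClosure K ≃* H :=
      ((Cfsg.Lib.JComp.oddClosure K).equivMapOfInjective _ K.subtype_injective).trans
        (MulEquiv.subgroupCongr hmap)
    obtain ⟨P⟩ : Nonempty (Sylow 2 (Cfsg.Lib.JComp.oddClosure K)) := inferInstance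
    obtain ⟨P₀, hP₀⟩ := exists_sylow_res S
    set P' : Sylow 2 H := P.mapSurjective (f := f.toMonoidHom) f.surjective
    let g : (P : Subgroup (Cfsg.Lib.JComp.oddClosure K)) ≃* ↥((S : Subgroup G) ⊓ H) :=
      (((P : Subgroup (Cfsg.Lib.JComp.oddClosure K)).equivMapOfInjective f.toMonoidHom f.injective).trans
        (P'.equiv P₀)).trans ((MulEquiv.subgroupCongr hP₀).trans ((MulEquiv.subgroupCongr
          (inf_subgroupOf_right _ _).symm).trans (subgroupOfEquivOfLe inf_le_right)))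
    rcases dihedral_or_quasi hM₁ e₁ P with ⟨n, hn, ⟨d⟩⟩ | ⟨n, hn, hcard, x, y, hx, hy, hxy⟩
    · exact Or.inl ⟨n, hn, ⟨g.symm.trans d⟩⟩
    · refine Or.inr ⟨n, hn, by rw [← Nat.card_congr g.toEquiv, hcard], g x, g y,
        by rw [MulEquiv.orderOf_eq, hx], by rw [MulEquiv.orderOf_eq, hy], ?_⟩
      rw [← map_inv, ← map_mul, ← map_mul, hxy, map_pow]

end Cfsg.Lib.SolvCentType
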